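import Mathlib
import Cfsg.Agent.Lib.SylowNormalInf
set_option linter.all false

section


/-!
# Minimal parabolics with transvections: transvections

`Tv d a φ`: `d` acts on the `F₂`-space `V` as the transvection `v ↦ v + φ v • a`.
-/

set_option autoImplicit false

namespace Cfsg.Agent.Omega.Transv

/-- the dual space -/
abbrev Du (V : Type*) [AddCommGroup V] [Module (ZMod 2) V] : Type _ := V →ₗ[ZMod 2] ZMod 2

theorem zmod_cases (c : ZMod 2) : c = 0 ∨ c = 1 := by
  fin_cases c
  · exact Or.inl rfl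
  · exact Or.inr rfl

theorem one_add_one : (1 : ZMod 2) + 1 = 0 := by decide

theorem eq_one_of_ne {c : ZMod 2} (h : c ≠ 0) : c = 1 := (zmod_cases c).resolve_left h

theorem eq_zero_of_ne {c : ZMod 2} (h : c ≠ 1) : c = 0 := (zmod_cases c).resolve_right h

theorem one_ne : (1 : ZMod 2) ≠ 0 := by decide

variable {P : Type*} [Group P] {V : Type*} [AddCommGroup V] [Module (ZMod 2) V]

theorem add_self (v : V) : v + v = 0 := by
  have h : ((1 : ZMod 2) + 1) • v = 0 := by rw [one_add_one, zero_smul]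
  rwa [add_smul, one_smul] at h

theorem neg_eq (v : V) : -v = v := by
  rw [neg_eq_iff_add_eq_zero]
  exact add_self v

theorem eq_of_add {v w : V} (h : v + w = 0) : v = w := by
  rw [← neg_eq w]
  exact eq_neg_of_add_eq_zero_left h

theorem add_add_self (v w : V) : v + w + w = v := by
  rw [add_assoc, add_self, add_zero]

variable [DistribMulAction P V]

theorem smul_zmod (g : P) (c : ZMod 2) (v : V) : g • (c • v) = c • (g • v) := by
  rcases zmod_cases c with h | h
  · subst h; simp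
  · subst h; simp

/-- the action on the dual space -/
def dua (g : P) (φ : Du V) : Du V where
  toFun v := φ (g⁻¹ • v)
  map_add' v w := by rw [smul_add, map_add]
  map_smul' c v := by rw [smul_zmod, map_smul]; rfl

@[simp] theorem dua_apply (g : P) (φ : Du V) (v : V) : dua g φ v = φ (g⁻¹ • v) := rfl

/-- `d` is the transvection with centre `a` and axis `ker φ` -/
structure Tv (d : P) (a : V) (φ : Du V) : Prop where
  ne : a ≠ 0
  nz : φ ≠ 0
  act : ∀ v : V, d • v = v + φ v • a

/-- faithful action -/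
def Faith (P V : Type*) [Group P] [AddCommGroup V] [Module (ZMod 2) V] [DistribMulAction P V] : Prop :=
  ∀ g : P, (∀ v : V, g • v = v) → g = 1

theorem Faith.ext (hf : Faith P V) {g h : P} (H : ∀ v : V, g • v = h • v) : g = h := by
  have h1 : h⁻¹ * g = 1 := by
    refine hf _ fun v => ?_
    rw [mul_smul, H, inv_smul_smul]
  exact (inv_mul_eq_one.mp h1).symm

theorem exists_one {φ : Du V} (h : φ ≠ 0) : ∃ v, φ v = 1 := by
  by_contra hc
  push Not at hc
  apply h
  ext v
  exact eq_zero_of_ne (hc v)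

namespace Tv

variable {d e g : P} {a b : V} {φ ψ : Du V}

theorem self (h : Tv d a φ) : φ a = 0 := by
  refine eq_zero_of_ne fun h1 => h.ne ?_
  have h2 := h.act a
  rw [h1, one_smul, add_self] at h2
  have h3 : d⁻¹ • (d • a) = d⁻¹ • (0 : V) := by rw [h2]
  rwa [inv_smul_smul, smul_zero] at h3

theorem unique (h : Tv d a φ) (h' : Tv d b ψ) : a = b ∧ φ = ψ := by
  obtain ⟨v, hv⟩ := exists_one h.nz
  have h1 := h.act v
  rw [h'.act v, hv, one_smul] at h1
  have h2 : ψ v • b = a := add_left_cancel h1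
  have h3 : ψ v = 1 := by
    refine eq_one_of_ne fun h0 => h.ne ?_
    rw [← h2, h0, zero_smul]
  have h4 : a = b := by rw [← h2, h3, one_smul]
  subst h4
  refine ⟨rfl, ?_⟩
  ext w
  have h5 := h.act w
  rw [h'.act w] at h5
  have h6 : ψ w • a = φ w • a := add_left_cancel h5
  have h7 : (ψ w - φ w) • a = 0 := by rw [sub_smul, h6, sub_self]
  by_contra hc
  have h8 : ψ w - φ w ≠ 0 := fun h0 => hc (sub_eq_zero.mp h0).symm
  rw [eq_one_of_ne h8, one_smul] at h7
  exact h.ne h7

theorem fix_iff (h : Tv d a φ) (v : V) : d • v = v ↔ φ v = 0 := by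
  rw [h.act v]
  constructor
  · intro h1
    by_contra hc
    rw [eq_one_of_ne hc, one_smul] at h1
    exact h.ne (left_eq_add.mp h1.symm)
  · intro h1
    rw [h1, zero_smul, add_zero]

theorem mul_self (hf : Faith P V) (h : Tv d a φ) : d * d = 1 := by
  refine hf _ fun v => ?_
  rw [mul_smul, h.act v, smul_add, h.act v, smul_zmod, h.act a, h.self, zero_smul, add_zero,
    add_add_self]

theorem inv_eq (hf : Faith P V) (h : Tv d a φ) : d⁻¹ = d :=
  inv_eq_of_mul_eq_one_left (h.mul_self hf)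

theorem ne_one (h : Tv d a φ) : d ≠ 1 := by
  intro h1
  obtain ⟨v, hv⟩ := exists_one h.nz
  have h2 := h.act v
  rw [h1, one_smul, hv, one_smul] at h2
  exact h.ne (left_eq_add.mp h2)

theorem ext (hf : Faith P V) (h : Tv d a φ) (h' : Tv e a φ) : d = e :=
  hf.ext fun v => by rw [h.act, h'.act]

theorem conj (h : Tv d a φ) (g : P) : Tv (g * d * g⁻¹) (g • a) (dua g φ) where
  ne := by
    intro h0
    apply h.ne
    have h1 : g⁻¹ • (g • a) = g⁻¹ • (0 : V) := by rw [h0]
    rwa [inv_smul_smul, smul_zero] at h1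
  nz := by
    obtain ⟨v, hv⟩ := exists_one h.nz
    intro h0
    have h1 : dua g φ (g • v) = 0 := by rw [h0]; rfl
    rw [dua_apply, inv_smul_smul, hv] at h1
    exact one_ne h1
  act v := by
    rw [mul_smul, mul_smul, h.act, smul_add, smul_inv_smul, smul_zmod, dua_apply]

/-- two transvections with the same axis -/
theorem mul_axis (h : Tv d a φ) (h' : Tv e b φ) (hab : a ≠ b) : Tv (d * e) (a + b) φ where
  ne := fun h0 => hab (eq_of_add h0)
  nz := h.nz
  act v := by
    rw [mul_smul, h'.act, h.act, map_add, map_smul, h'.self, smul_zero, add_zero, smul_add]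
    abel

/-- two transvections with the same centre -/
theorem mul_centre (h : Tv d a φ) (h' : Tv e a ψ) (hab : φ ≠ ψ) : Tv (d * e) a (φ + ψ) where
  ne := h.ne
  nz := by
    intro h0
    apply hab
    ext v
    have h1 : (φ + ψ) v = 0 := by rw [h0]; rfl
    rw [LinearMap.add_apply] at h1
    exact eq_of_add h1
  act v := by
    rw [mul_smul, h'.act, h.act, map_add, map_smul, h.self, smul_zero, add_zero,
      LinearMap.add_apply, add_smul]
    abel

/-- conjugating a transvection by a transvection -/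
theorem conj_tv (hf : Faith P V) (h : Tv d a φ) (h' : Tv e b ψ) :
    Tv (d * e * d) (b + φ b • a) (ψ + ψ a • φ) := by
  have h1 := h'.conj d
  have h2 : d⁻¹ = d := h.inv_eq hf
  rw [h.act b] at h1
  have h3 : dua d ψ = ψ + ψ a • φ := by
    ext v
    rw [dua_apply, h2, h.act, map_add, map_smul, LinearMap.add_apply, LinearMap.smul_apply,
      smul_eq_mul, smul_eq_mul, mul_comm]
  rw [h3, h2] at h1
  exact h1

end Tv

end Cfsg.Agent.Omega.Transv

end

section


/-!
# Minimal parabolics with transvections: the fixed vector of the Sylow subgroup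

`Hyp T M`: `P` acts faithfully on `V`, `M` is the only maximal subgroup over the Sylow 2-subgroup `T`, normal
subgroups of even order have no fixed vectors and no fixed functionals, `O₂(P) = 1`, and `P` contains a transvection.
-/

set_option autoImplicit false

namespace Cfsg.Agent.Omega.Transv

open Subgroup

variable {P : Type*} [Group P] {V : Type*} [AddCommGroup V] [Module (ZMod 2) V] [DistribMulAction P V]

/-- the transvections in `P` -/
def DD (P V : Type*) [Group P] [AddCommGroup V] [Module (ZMod 2) V] [DistribMulAction P V] : Set P :=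
  {d | ∃ (a : V) (φ : Du V), Tv d a φ}

/-- the hypotheses -/
structure Hyp (P V : Type*) [Group P] [AddCommGroup V] [Module (ZMod 2) V] [DistribMulAction P V]
    (T : Sylow 2 P) (M : Subgroup P) : Prop where
  faith : Faith P V
  le : (T : Subgroup P) ≤ M
  ne : M ≠ ⊤
  max : ∀ X : Subgroup P, (T : Subgroup P) ≤ X → X ≤ M ∨ X = ⊤
  fix : ∀ N : Subgroup P, N.Normal → 2 ∣ Nat.card N → ∀ v : V, (∀ n ∈ N, n • v = v) → v = 0
  fixd : ∀ N : Subgroup P, N.Normal → 2 ∣ Nat.card N → ∀ φ : Du V, (∀ n ∈ N, ∀ v : V, φ (n • v) = φ v) →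
    φ = 0
  core : ∀ N : Subgroup P, N.Normal → IsPGroup 2 N → N = ⊥
  tv : (DD P V).Nonempty

/-- a 2-group has a nonzero fixed point on a nonzero elementary abelian 2-group -/
theorem exists_fixed {Q W : Type*} [Group Q] [Finite Q] [AddCommGroup W] [Module (ZMod 2) W] [Finite W]
    [DistribMulAction Q W] (hQ : IsPGroup 2 Q) {w : W} (hw : w ≠ 0) :
    ∃ w0 : W, w0 ≠ 0 ∧ ∀ x : Q, x • w0 = w0 := by
  have : Fact (Nat.Prime 2) := ⟨Nat.prime_two⟩
  have h1 : addOrderOf w = 2 := by
    refine addOrderOf_eq_prime ?_ hw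
    rw [two_nsmul]
    exact add_self w
  have h2 : 2 ∣ Nat.card W := h1 ▸ addOrderOf_dvd_natCard w
  have h3 : (0 : W) ∈ MulAction.fixedPoints Q W := fun x => smul_zero x
  obtain ⟨w0, hw0, hne⟩ := hQ.exists_fixed_point_of_prime_dvd_card_of_fixed_point W h2 h3
  exact ⟨w0, fun h => hne h.symm, fun x => hw0 x⟩

theorem mem_DD_conj {d : P} (h : d ∈ DD P V) (g : P) : g * d * g⁻¹ ∈ DD P V := by
  obtain ⟨a, φ, h⟩ := h
  exact ⟨_, _, h.conj g⟩

theorem even_of_mem [Finite P] (hf : Faith P V) {N : Subgroup P} {d : P} (hd : d ∈ DD P V) (h : d ∈ N) :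
    2 ∣ Nat.card N := by
  obtain ⟨a, φ, ht⟩ := hd
  have h1 : orderOf (⟨d, h⟩ : N) = 2 := by
    have : Fact (Nat.Prime 2) := ⟨Nat.prime_two⟩
    refine orderOf_eq_prime ?_ ?_
    · apply Subtype.ext
      change d ^ 2 = 1
      rw [pow_two]
      exact ht.mul_self hf
    · intro h0
      exact ht.ne_one (congrArg Subtype.val h0)
  exact h1 ▸ orderOf_dvd_natCard _

/-- the fixed points in an abstract module `W` with "axes" `λ_d` -/
theorem exists_point {W : Type*} [AddCommGroup W] [Module (ZMod 2) W] [Finite W] [DistribMulAction P W]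
    [Finite P] {T : Sylow 2 P} {M : Subgroup P} (hle : (T : Subgroup P) ≤ M)
    (hmax : ∀ X : Subgroup P, (T : Subgroup P) ≤ X → X ≤ M ∨ X = ⊤)
    {D : Set P} (hfix : ∀ N : Subgroup P, N.Normal → (∃ d ∈ D, d ∈ N) → ∀ w : W, (∀ n ∈ N, n • w = w) → w = 0)
    (hD : ∀ d ∈ D, ∀ g, g * d * g⁻¹ ∈ D) (lam : P → W →ₗ[ZMod 2] ZMod 2)
    (h0 : ∀ d ∈ D, ∀ w, d • w = w ↔ lam d w = 0)
    (hconj : ∀ d ∈ D, ∀ g w, lam (g * d * g⁻¹) (g • w) = lam d w) (hM : ∃ d ∈ D, d ∉ M)
    (hW : ∃ w : W, w ≠ 0) :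
    ∃ w0 : W, w0 ≠ 0 ∧ (∀ g, g ∈ M ↔ g • w0 = w0) ∧ (∀ w, (∀ t ∈ T, t • w = w) → w = 0 ∨ w = w0) := by
  obtain ⟨w, hw⟩ := hW
  obtain ⟨w0, hw0, hfx⟩ := exists_fixed (Q := T) T.isPGroup' hw
  have hfx' : ∀ t ∈ T, t • w0 = w0 := fun t ht => hfx ⟨t, ht⟩
  obtain ⟨d0, hd0, hd0M⟩ := hM
  -- stabilisers of `T`-fixed vectors
  have hst : ∀ w : W, w ≠ 0 → (∀ t ∈ T, t • w = w) → ∀ g, g • w = w → g ∈ M := by
    intro w hw hT g hg
    rcases hmax (MulAction.stabilizer P w) (fun t ht => hT t ht) with h | h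
    · exact h hg
    · exfalso
      apply hw
      refine hfix ⊤ inferInstance ⟨d0, hd0, mem_top _⟩ w fun n _ => ?_
      have h1 : n ∈ MulAction.stabilizer P w := by rw [h]; exact mem_top _
      exact h1
  have hone : ∀ w : W, w ≠ 0 → (∀ t ∈ T, t • w = w) → ∀ d ∈ D, d ∉ M → lam d w = 1 := by
    intro w hw hT d hd hdM
    refine eq_one_of_ne fun h => hdM ?_
    exact hst w hw hT d ((h0 d hd w).mpr h)
  -- `M` fixes `w0`
  set K : Subgroup P := closure {d | d ∈ D ∧ d ∉ M} with hK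
  have hKM : ¬ K ≤ M := fun h => hd0M (h (subset_closure ⟨hd0, hd0M⟩))
  have hKn : K.Normal := by
    have h1 : ∀ g, (g ∈ M ∨ g ∈ K) → g ∈ normalizer (K : Set P) := by
      rintro g (hg | hg)
      · have h2 : ∀ m ∈ M, ∀ x ∈ K, m * x * m⁻¹ ∈ K := by
          intro m hm x hx
          have h3 : K ≤ K.comap (MulAut.conj m).toMonoidHom := by
            rw [hK, closure_le]
            rintro d ⟨hd, hdM⟩
            refine subset_closure ⟨?_, ?_⟩
            · exact hD d hd m
            · intro h4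
              apply hdM
              have h5 := M.mul_mem (M.mul_mem (M.inv_mem hm) h4) hm
              have h6 : m⁻¹ * (MulAut.conj m).toMonoidHom d * m = d := by
                change m⁻¹ * (m * d * m⁻¹) * m = d
                group
              rwa [h6] at h5
          exact h3 hx
        rw [mem_normalizer_iff]
        intro x
        refine ⟨h2 g hg x, fun h => ?_⟩
        have h3 := h2 g⁻¹ (M.inv_mem hg) _ h
        have h4 : g⁻¹ * (g * x * g⁻¹) * g⁻¹⁻¹ = x := by group
        rwa [h4] at h3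
      · exact le_normalizer hg
    have h2 : normalizer (K : Set P) = ⊤ := by
      rcases hmax (normalizer (K : Set P)) (fun t ht => h1 t (Or.inl (hle ht))) with h | h
      · exact absurd (fun g hg => h (h1 g (Or.inr hg))) hKM
      · exact h
    exact normalizer_eq_top_iff.mp h2
  have hMfix : ∀ m ∈ M, m • w0 = w0 := by
    intro m hm
    have h1 : m • w0 - w0 = 0 := by
      refine hfix K hKn ⟨d0, hd0, subset_closure ⟨hd0, hd0M⟩⟩ _ fun n hn => ?_
      have h2 : K ≤ MulAction.stabilizer P (m • w0 - w0) := by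
        rw [hK, closure_le]
        rintro d ⟨hd, hdM⟩
        change d • (m • w0 - w0) = m • w0 - w0
        rw [h0 d hd, map_sub, hone w0 hw0 hfx' d hd hdM]
        have h3 : lam d (m • w0) = 1 := by
          have h4 := hconj (m⁻¹ * d * m) (by simpa using hD d hd m⁻¹) m w0
          have h5 : m * (m⁻¹ * d * m) * m⁻¹ = d := by group
          rw [h5] at h4
          rw [h4]
          refine hone w0 hw0 hfx' _ (by simpa using hD d hd m⁻¹) fun h => hdM ?_
          have h6 := M.mul_mem (M.mul_mem hm h) (M.inv_mem hm)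
          rwa [h5] at h6
        rw [h3, sub_self]
      exact h2 hn
    exact sub_eq_zero.mp h1
  refine ⟨w0, hw0, fun g => ⟨hMfix g, hst w0 hw0 hfx' g⟩, fun w hT => ?_⟩
  by_contra hc
  push Not at hc
  have h1 := hone w hc.1 hT d0 hd0 hd0M
  have h2 := hone w0 hw0 hfx' d0 hd0 hd0M
  have h3 : w + w0 ≠ 0 := fun h => hc.2 (eq_of_add h)
  have h4 := hone (w + w0) h3 (fun t ht => by rw [smul_add, hT t ht, hfx' t ht]) d0 hd0 hd0M
  rw [map_add, h1, h2] at h4
  exact one_ne (h4.symm.trans one_add_one)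

/-- a normal subgroup of even order is not in `M` -/
theorem not_le_of [Finite P] {T : Sylow 2 P} {M : Subgroup P} (hne : M ≠ ⊤)
    (hmax : ∀ X : Subgroup P, (T : Subgroup P) ≤ X → X ≤ M ∨ X = ⊤)
    (hcore : ∀ N : Subgroup P, N.Normal → IsPGroup 2 N → N = ⊥) {N : Subgroup P} (hN : N.Normal)
    (he : 2 ∣ Nat.card N) : ¬ N ≤ M := by
  intro h
  have : Fact (Nat.Prime 2) := ⟨Nat.prime_two⟩
  have h1 := Lib.SylowNormalInf.normalizer_inf_sup_eq_top T N
  have h0 : (T : Subgroup P) ≤ normalizer (((T : Subgroup P) ⊓ N : Subgroup P) : Set P) := by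
    intro t ht
    rw [mem_normalizer_iff]
    intro x
    have h3 : ∀ t ∈ (T : Subgroup P), ∀ x ∈ (T : Subgroup P) ⊓ N, t * x * t⁻¹ ∈ (T : Subgroup P) ⊓ N :=
      fun t ht x hx => ⟨mul_mem (mul_mem ht hx.1) ((T : Subgroup P).inv_mem ht), hN.conj_mem x hx.2 t⟩
    refine ⟨h3 t ht x, fun hx => ?_⟩
    have h4 := h3 t⁻¹ ((T : Subgroup P).inv_mem ht) _ hx
    have h5 : t⁻¹ * (t * x * t⁻¹) * t⁻¹⁻¹ = x := by group
    rwa [h5] at h4
  rcases hmax _ h0 with h2 | h2
  · apply hne
    rw [eq_top_iff, ← h1]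
    exact sup_le h2 h
  · have h3 : ((T : Subgroup P) ⊓ N).Normal := normalizer_eq_top_iff.mp h2
    have h4 := hcore _ h3 (T.isPGroup'.to_le inf_le_left)
    have h5 := Lib.SylowNormalInf.not_dvd_relIndex T N
    rw [← inf_relIndex_right, h4, relIndex_bot_left] at h5
    exact h5 he

namespace Hyp

variable {T : Sylow 2 P} {M : Subgroup P}

theorem not_le [Finite P] (hH : Hyp P V T M) {N : Subgroup P} (hN : N.Normal) (he : 2 ∣ Nat.card N) :
    ¬ N ≤ M :=
  not_le_of hH.ne hH.max hH.core hN he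

/-- some conjugate of a transvection is not in `M` -/
theorem exists_conj_notMem [Finite P] (hH : Hyp P V T M) {d : P} (hd : d ∈ DD P V) :
    ∃ g, g * d * g⁻¹ ∉ M := by
  by_contra hc
  push Not at hc
  have h1 : normalClosure {d} ≤ M := by
    rw [normalClosure, closure_le]
    intro x hx
    rw [Group.mem_conjugatesOfSet_iff] at hx
    obtain ⟨y, hy, hc'⟩ := hx
    rw [Set.mem_singleton_iff] at hy
    subst hy
    obtain ⟨g, hg⟩ := isConj_iff.mp hc'
    rw [← hg]
    exact hc g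
  refine hH.not_le (normalClosure_normal) ?_ h1
  exact even_of_mem hH.faith hd (subset_normalClosure rfl)

end Hyp

end Cfsg.Agent.Omega.Transv

end

section


/-!
# (BT), `|V/E| = 2`: the datum (project OMEGA, leaf N1)

`Y = P/C_P(V)` acts faithfully on the `F₂`-space `V`, `T` a Sylow 2-subgroup, `M` the unique maximal subgroup over
`T`, `C_V(T) = {0, z}`, `Ω = z^Y` spans `V`, no offender on `V`.  For `x ∈ Ω` there is a form `f x` with kernel
`E_x ∋ x`, a 2-group `Q x` (the image of `O₂(C_G(x))`) and a class `BB x` of elementary abelian subgroups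
`B ≤ Q x` (the images of `E_x^g`, `g` bad at `x`), normalised by `Q x`, such that `b ↦ [v, b] + C_V(B)` is a
bijection `B → E_x/C_V(B)` for all `v ∉ E_x` (`NB (f x) B`).
-/

set_option autoImplicit false
set_option linter.unusedSectionVars false

namespace Cfsg.Agent.Omega.NearFF

open Subgroup Cfsg.Agent.Omega.Transv

variable {Y : Type*} [Group Y] {V : Type*} [AddCommGroup V] [Module (ZMod 2) V] [DistribMulAction Y V]

/-- `v` is fixed by `B` -/
def Fx (B : Subgroup Y) (v : V) : Prop := ∀ b ∈ B, b • v = v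

/-- the commutator `[v, b]` -/
def cm (b : Y) (v : V) : V := b • v + v

/-- A near-offender for the hyperplane `ker φ`. -/
structure NB (φ : Du V) (B : Subgroup Y) : Prop where
  comm : ∀ a ∈ B, ∀ b ∈ B, a * b = b * a
  sq : ∀ b ∈ B, b * b = 1
  ne : B ≠ ⊥
  inv : ∀ b ∈ B, ∀ v : V, φ (b • v) = φ v
  ed : ∀ e : V, φ e = 0 → ∀ b ∈ B, Fx B (cm b e)
  inj : ∀ v : V, φ v = 1 → ∀ b ∈ B, Fx B (cm b v) → b = 1
  surj : ∀ v e : V, φ v = 1 → φ e = 0 → ∃ b ∈ B, Fx B (cm b v + e)

/-- The datum of (BT), `|V/E| = 2`. -/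
structure Dat (T : Sylow 2 Y) (M : Subgroup Y) (z : V) (f : V → Du V) (Q : V → Subgroup Y)
    (BB : V → Set (Subgroup Y)) : Prop where
  faith : Faith Y V
  le : (T : Subgroup Y) ≤ M
  ne : M ≠ ⊤
  max : ∀ X : Subgroup Y, (T : Subgroup Y) ≤ X → X ≤ M ∨ X = ⊤
  z_ne : z ≠ 0
  z_fix : Fx (T : Subgroup Y) z
  fixT : ∀ v : V, Fx (T : Subgroup Y) v → v = 0 ∨ v = z
  span : Submodule.span (ZMod 2) (Set.range fun g : Y => g • z) = ⊤
  /-- no offender -/
  noff : ∀ A : Subgroup Y, A ≠ ⊥ → (∀ a ∈ A, ∀ b ∈ A, a * b = b * a) → (∀ a ∈ A, a * a = 1) →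
    Nat.card A * Nat.card {v : V // Fx A v} < Nat.card V
  f_smul : ∀ (g : Y) (x : V), x ∈ MulAction.orbit Y z → f (g • x) = dua g (f x)
  f_self : f z z = 0
  f_ne : f z ≠ 0
  q_smul : ∀ (g : Y) (x : V), x ∈ MulAction.orbit Y z → ∀ a ∈ Q x, g * a * g⁻¹ ∈ Q (g • x)
  q_two : IsPGroup 2 (Q z)
  q_fix : Fx (Q z) z
  bb_smul : ∀ (g : Y) (x : V), x ∈ MulAction.orbit Y z → ∀ B ∈ BB x,
    B.map (MulAut.conj g).toMonoidHom ∈ BB (g • x)
  bb_ne : (BB z).Nonempty
  bb_le : ∀ B ∈ BB z, B ≤ Q z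
  bb_norm : ∀ B ∈ BB z, ∀ a ∈ Q z, ∀ b ∈ B, a * b * a⁻¹ ∈ B
  bb : ∀ B ∈ BB z, NB (f z) B
  star : ∀ B ∈ BB z, ∀ x ∈ MulAction.orbit Y z, Fx B x → f x = f z

end Cfsg.Agent.Omega.NearFF

end

section


/-!
# The Pfaffian bound (N1, (BT), #16135 (PF))

`A`, `S` finite elementary abelian 2-groups (additive), `β : A → S → S → ZMod 2` triadditive, alternating in
the last two variables; all the forms `β a`, `a ≠ 0`, have the same radical `R ≠ S`.  Then
`|A|² ≤ |S : R|`.
-/

set_option autoImplicit false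

namespace Cfsg.Agent.Omega.NearFF.Pfaff

open Finset Matrix

section det

variable {m : ℕ}

/-- the fixed-point-free involutions -/
def fpf (m : ℕ) : Finset (Equiv.Perm (Fin m)) :=
  univ.filter fun σ => (∀ i, σ (σ i) = i) ∧ ∀ i, σ i ≠ i

theorem mem_fpf {σ : Equiv.Perm (Fin m)} : σ ∈ fpf m ↔ (∀ i, σ (σ i) = i) ∧ ∀ i, σ i ≠ i := by
  simp [fpf]

theorem zmod_mul_self (x : ZMod 2) : x * x = x := by
  revert x; decide

theorem sign_cast (σ : Equiv.Perm (Fin m)) : ((Equiv.Perm.sign σ : ℤ) : ZMod 2) = 1 := by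
  rcases Int.units_eq_one_or (Equiv.Perm.sign σ) with h | h <;> rw [h] <;> decide

/-- The determinant of an alternating matrix over `F₂`. -/
theorem det_alt (M : Matrix (Fin m) (Fin m) (ZMod 2)) (hs : ∀ i j, M i j = M j i) (h0 : ∀ i, M i i = 0) :
    M.det = ∑ σ ∈ fpf m, ∏ i ∈ univ.filter (fun i => i < σ i), M i (σ i) := by
  classical
  rw [det_apply']
  have h1 : ∀ σ : Equiv.Perm (Fin m), ((Equiv.Perm.sign σ : ℤ) : ZMod 2) * ∏ i, M (σ i) i =
      ∏ i, M (σ i) i := fun σ => by rw [sign_cast, one_mul]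
  rw [Finset.sum_congr rfl fun σ _ => h1 σ]
  rw [← Finset.sum_filter_add_sum_filter_not univ (fun σ => σ ∈ fpf m)]
  have h2 : ∑ σ ∈ univ.filter (fun σ : Equiv.Perm (Fin m) => σ ∉ fpf m), ∏ i, M (σ i) i = 0 := by
    refine Finset.sum_involution (fun σ _ => σ⁻¹) ?_ ?_ ?_ ?_
    · intro σ _
      have h3 : ∏ i, M (σ⁻¹ i) i = ∏ i, M (σ i) i := by
        rw [← Equiv.prod_comp σ (fun i => M (σ⁻¹ i) i)]
        refine Finset.prod_congr rfl fun i _ => ?_
        have e1 : σ⁻¹ (σ i) = i := Equiv.symm_apply_apply σ i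
        rw [e1]
        exact hs _ _
      rw [h3]
      exact CharTwo.add_self_eq_zero _
    · intro σ hσ hne he
      rw [mem_filter, mem_fpf] at hσ
      have hσ2 := hσ.2
      apply hσ2
      have h3 : ∀ i, σ (σ i) = i := fun i => by
        have e1 : σ⁻¹ (σ i) = i := Equiv.symm_apply_apply σ i
        rwa [he] at e1
      refine ⟨h3, fun i hi => hne ?_⟩
      exact Finset.prod_eq_zero (mem_univ i) (by rw [hi]; exact h0 i)
    · intro σ hσ
      rw [mem_filter, mem_fpf] at hσ ⊢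
      refine ⟨mem_univ _, fun h3 => hσ.2 ⟨fun i => ?_, fun i hi => ?_⟩⟩
      · have e1 : ∀ j, σ⁻¹ (σ j) = j := fun j => Equiv.symm_apply_apply σ j
        have := h3.1 (σ (σ i))
        rw [e1, e1] at this
        exact this.symm
      · apply h3.2 i
        have e1 : ∀ j, σ⁻¹ (σ j) = j := fun j => Equiv.symm_apply_apply σ j
        conv_lhs => rw [← hi]
        exact e1 i
    · intro σ _
      exact inv_inv σ
  rw [h2, add_zero]
  have h4 : univ.filter (fun σ => σ ∈ fpf m) = fpf m := by ext; simp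
  rw [h4]
  refine Finset.sum_congr rfl fun σ hσ => ?_
  rw [mem_fpf] at hσ
  rw [← Finset.prod_filter_mul_prod_filter_not univ (fun i => i < σ i)]
  have h5 : ∏ i ∈ univ.filter (fun i => ¬ i < σ i), M (σ i) i =
      ∏ i ∈ univ.filter (fun i => i < σ i), M i (σ i) := by
    refine Finset.prod_bij' (fun i _ => σ i) (fun i _ => σ i) ?_ ?_ ?_ ?_ ?_
    · intro i hi
      rw [mem_filter] at hi ⊢
      refine ⟨mem_univ _, ?_⟩
      rw [hσ.1 i]
      exact lt_of_le_of_ne (not_lt.1 hi.2) (hσ.2 i)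
    · intro i hi
      rw [mem_filter] at hi ⊢
      refine ⟨mem_univ _, ?_⟩
      rw [hσ.1 i]
      exact not_lt.2 hi.2.le
    · intro i _; exact hσ.1 i
    · intro i _; exact hσ.1 i
    · intro i _
      rw [hσ.1 i]
  rw [h5, ← Finset.prod_mul_distrib]
  refine Finset.prod_congr rfl fun i _ => ?_
  rw [hs (σ i) i]
  exact zmod_mul_self _

theorem card_lt {σ : Equiv.Perm (Fin m)} (hσ : σ ∈ fpf m) :
    2 * (univ.filter (fun i => i < σ i)).card = m := by
  rw [mem_fpf] at hσ
  have h1 : (univ.filter (fun i => ¬ i < σ i)).card = (univ.filter (fun i => i < σ i)).card := by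
    refine Finset.card_bij' (fun i _ => σ i) (fun i _ => σ i) ?_ ?_ ?_ ?_
    · intro i hi
      rw [mem_filter] at hi ⊢
      refine ⟨mem_univ _, ?_⟩
      rw [hσ.1 i]
      exact lt_of_le_of_ne (not_lt.1 hi.2) (hσ.2 i)
    · intro i hi
      rw [mem_filter] at hi ⊢
      refine ⟨mem_univ _, ?_⟩
      rw [hσ.1 i]
      exact not_lt.2 hi.2.le
    · intro i _; exact hσ.1 i
    · intro i _; exact hσ.1 i
  have h2 := Finset.card_filter_add_card_filter_not (s := (univ : Finset (Fin m))) (fun i => i < σ i)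
  rw [h1, Finset.card_univ, Fintype.card_fin] at h2
  omega

end det

section pol

variable {m d : ℕ}

/-- **The Pfaffian bound for matrices.** -/
theorem le_of_det (β : (Fin d → ZMod 2) →+ Matrix (Fin m) (Fin m) (ZMod 2))
    (hs : ∀ a i j, β a i j = β a j i) (h0 : ∀ a i, β a i i = 0) (hd : ∀ a, a ≠ 0 → (β a).det ≠ 0)
    (hm : 0 < m) : 2 * d ≤ m := by
  classical
  by_contra hcon
  push Not at hcon
  -- the linear forms
  let L : Fin m → Fin m → MvPolynomial (Fin d) (ZMod 2) := fun i j =>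
    ∑ k, MvPolynomial.C (β (Pi.single k 1) i j) * MvPolynomial.X k
  have hL : ∀ (a : Fin d → ZMod 2) i j, MvPolynomial.eval a (L i j) = β a i j := by
    intro a i j
    have ha : a = ∑ k, Pi.single k (a k) := (Finset.univ_sum_single a).symm
    have h1 : ∀ (k : Fin d) (c : ZMod 2), β (Pi.single k c) = c • β (Pi.single k 1) := by
      intro k c
      have : c = 0 ∨ c = 1 := by revert c; decide
      rcases this with rfl | rfl
      · rw [Pi.single_zero, map_zero, zero_smul]
      · rw [one_smul]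
    simp only [L, map_sum, map_mul, MvPolynomial.eval_C, MvPolynomial.eval_X]
    conv_rhs => rw [ha, map_sum]
    rw [Matrix.sum_apply]
    refine Finset.sum_congr rfl fun k _ => ?_
    rw [h1 k (a k), Matrix.smul_apply, smul_eq_mul, mul_comm]
  have hLd : ∀ i j, (L i j).totalDegree ≤ 1 := by
    intro i j
    refine (MvPolynomial.totalDegree_finsetSum _ _).trans ?_
    refine Finset.sup_le fun k _ => ?_
    refine (MvPolynomial.totalDegree_mul _ _).trans ?_
    rw [MvPolynomial.totalDegree_C, zero_add, MvPolynomial.totalDegree_X]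
  let P : MvPolynomial (Fin d) (ZMod 2) :=
    ∑ σ ∈ fpf m, ∏ i ∈ univ.filter (fun i => i < σ i), L i (σ i)
  have hP : ∀ a : Fin d → ZMod 2, MvPolynomial.eval a P = (β a).det := by
    intro a
    rw [det_alt (β a) (hs a) (h0 a)]
    simp only [P, map_sum, map_prod, hL]
  have hPd : P.totalDegree < Fintype.card (Fin d) := by
    rw [Fintype.card_fin]
    have h1 : 2 * P.totalDegree ≤ m := by
      have h2 : P.totalDegree ≤ m / 2 := by
        refine (MvPolynomial.totalDegree_finsetSum _ _).trans ?_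
        refine Finset.sup_le fun σ hσ => ?_
        refine (MvPolynomial.totalDegree_finsetProd _ _).trans ?_
        refine (Finset.sum_le_sum fun i _ => hLd i (σ i)).trans ?_
        rw [Finset.sum_const, smul_eq_mul, mul_one]
        have := card_lt hσ
        omega
      omega
    omega
  have h3 := char_dvd_card_solutions 2 hPd
  have h4 : Fintype.card {x : Fin d → ZMod 2 // MvPolynomial.eval x P = 0} = 1 := by
    rw [Fintype.card_eq_one_iff]
    refine ⟨⟨0, ?_⟩, ?_⟩
    · rw [hP, map_zero]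
      have : Nonempty (Fin m) := ⟨⟨0, hm⟩⟩
      exact Matrix.det_zero
    · rintro ⟨x, hx⟩
      rw [hP] at hx
      by_contra hne
      exact hd x (fun h => hne (Subtype.ext h)) hx
  rw [h4] at h3
  omega

end pol

section abs

variable {A S : Type*} [AddCommGroup A] [AddCommGroup S] [Finite A] [Finite S]

theorem form_symm {A S : Type*} [AddCommGroup A] [AddCommGroup S] {β : A →+ S →+ S →+ ZMod 2}
    (alt : ∀ a s, β a s s = 0) (a : A) (s t : S) : β a s t = β a t s := by
  have h2 := alt a (s + t)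
  simp only [map_add, AddMonoidHom.add_apply, alt, zero_add, add_zero] at h2
  have h4 : ∀ x y : ZMod 2, y + x = 0 → x = y := by decide
  exact h4 _ _ h2

omit [Finite A] [Finite S] in
theorem le_of_basis {d m : ℕ} [Module (ZMod 2) A] [Module (ZMod 2) S]
    (bA : Module.Basis (Fin d) (ZMod 2) A) (bS : Module.Basis (Fin m) (ZMod 2) S) (hm : 0 < m)
    (β : A →+ S →+ S →+ ZMod 2) (alt : ∀ a s, β a s s = 0)
    (rad : ∀ a, a ≠ 0 → ∀ s, (∀ t, β a t s = 0) → s = 0) : 2 * d ≤ m := by
  classical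
  let e := bA.equivFun
  let β' : (Fin d → ZMod 2) →+ Matrix (Fin m) (Fin m) (ZMod 2) :=
    AddMonoidHom.mk' (fun a => Matrix.of fun i j => β (e.symm a) (bS i) (bS j)) (by
        intro a b
        ext i j
        simp [Matrix.add_apply])
  have hβ' : ∀ a i j, β' a i j = β (e.symm a) (bS i) (bS j) := fun _ _ _ => rfl
  refine le_of_det β' (fun a i j => form_symm alt _ _ _) (fun a i => alt _ _) ?_ hm
  intro a ha hdet
  have ha' : e.symm a ≠ 0 := fun h => ha ((LinearEquiv.map_eq_zero_iff e.symm).1 h)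
  obtain ⟨v, hv, hv2⟩ := (Matrix.exists_mulVec_eq_zero_iff (M := β' a)).2 hdet
  apply hv
  have h01 : ∀ x : ZMod 2, x = 0 ∨ x = 1 := by decide
  have h3 : ∑ j, v j • bS j = 0 := by
    apply rad _ ha'
    have h4 : ∀ i, β (e.symm a) (bS i) (∑ j, v j • bS j) = 0 := by
      intro i
      have h5 := congrFun hv2 i
      rw [Pi.zero_apply] at h5
      rw [map_sum, ← h5, Matrix.mulVec, dotProduct]
      refine Finset.sum_congr rfl fun j _ => ?_
      rw [hβ']
      rcases h01 (v j) with h6 | h6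
      · rw [h6, zero_smul, map_zero, mul_zero]
      · rw [h6, one_smul, mul_one]
    generalize (∑ j, v j • bS j) = u at h4
    intro t
    rw [← bS.sum_repr t, map_sum, AddMonoidHom.finsetSum_apply]
    refine Finset.sum_eq_zero fun i _ => ?_
    rcases h01 (bS.repr t i) with h6 | h6
    · rw [h6, zero_smul, map_zero, AddMonoidHom.zero_apply]
    · rw [h6, one_smul]; exact h4 i
  have h4 := (Fintype.linearIndependent_iff.1 bS.linearIndependent) v h3
  funext j
  exact h4 j

/-- **The Pfaffian bound**, nondegenerate forms. -/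
theorem card_sq_le_card (hA : ∀ a : A, a + a = 0) (hS : ∀ s : S, s + s = 0)
    (β : A →+ S →+ S →+ ZMod 2) (alt : ∀ a s, β a s s = 0)
    (rad : ∀ a, a ≠ 0 → ∀ s, (∀ t, β a t s = 0) → s = 0) (h1 : Nontrivial S) :
    Nat.card A ^ 2 ≤ Nat.card S := by
  let i1 : Module (ZMod 2) A := AddCommGroup.zmodModule (n := 2) fun a => by rw [two_nsmul]; exact hA a
  let i2 : Module (ZMod 2) S := AddCommGroup.zmodModule (n := 2) fun a => by rw [two_nsmul]; exact hS a
  have i3 : Module.Finite (ZMod 2) A := Module.Finite.of_finite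
  have i4 : Module.Finite (ZMod 2) S := Module.Finite.of_finite
  have hcA : Nat.card A = 2 ^ Module.finrank (ZMod 2) A := by
    rw [Module.natCard_eq_pow_finrank (K := ZMod 2), Nat.card_zmod]
  have hcS : Nat.card S = 2 ^ Module.finrank (ZMod 2) S := by
    rw [Module.natCard_eq_pow_finrank (K := ZMod 2), Nat.card_zmod]
  have h2 := le_of_basis (Module.finBasis (ZMod 2) A) (Module.finBasis (ZMod 2) S)
    Module.finrank_pos β alt rad
  rw [hcA, hcS, ← pow_mul]
  exact Nat.pow_le_pow_right (by norm_num) (by omega)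

/-- **The Pfaffian bound**: forms with a common radical `R`. -/
theorem card_sq_le_index (hA : ∀ a : A, a + a = 0) (hS : ∀ s : S, s + s = 0)
    (β : A →+ S →+ S →+ ZMod 2) (alt : ∀ a s, β a s s = 0) (R : AddSubgroup S)
    (hR : ∀ a, a ≠ 0 → ∀ s, (∀ t, β a t s = 0) ↔ s ∈ R) (h1 : R ≠ ⊤) :
    Nat.card A ^ 2 ≤ R.index := by
  classical
  have symm : ∀ a s t, β a s t = β a t s := form_symm alt
  have kz : ∀ a, ∀ s ∈ R, ∀ t, β a t s = 0 := by
    intro a s hs t
    by_cases ha : a = 0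
    · rw [ha, map_zero]; rfl
    · exact (hR a ha s).2 hs t
  have kz' : ∀ a, ∀ s ∈ R, ∀ t, β a s t = 0 := fun a s hs t => by rw [symm]; exact kz a s hs t
  let γ : A →+ (S ⧸ R) →+ (S ⧸ R) →+ ZMod 2 :=
    AddMonoidHom.mk' (fun a =>
      QuotientAddGroup.lift R
        (AddMonoidHom.mk' (fun s => QuotientAddGroup.lift R (β a s) (fun t ht => kz a t ht s))
          (by
            intro s s'
            refine QuotientAddGroup.addMonoidHom_ext _ (AddMonoidHom.ext fun t => ?_)
            change β a (s + s') t = β a s t + β a s' t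
            rw [map_add, AddMonoidHom.add_apply]))
        (by
          intro s hs
          refine QuotientAddGroup.addMonoidHom_ext _ (AddMonoidHom.ext fun t => ?_)
          change β a s t = 0
          exact kz' a s hs t))
      (by
        intro a b
        refine QuotientAddGroup.addMonoidHom_ext _ (AddMonoidHom.ext fun s => ?_)
        refine QuotientAddGroup.addMonoidHom_ext _ (AddMonoidHom.ext fun t => ?_)
        change β (a + b) s t = β a s t + β b s t
        rw [map_add, AddMonoidHom.add_apply, AddMonoidHom.add_apply])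
  have hγ : ∀ (a : A) (s t : S), γ a (s : S ⧸ R) (t : S ⧸ R) = β a s t := fun a s t => rfl
  have hS' : ∀ s : S ⧸ R, s + s = 0 := by
    intro s
    induction s using QuotientAddGroup.induction_on with
    | _ s => rw [← QuotientAddGroup.mk_add, hS, QuotientAddGroup.mk_zero]
  have h2 : Nat.card A ^ 2 ≤ Nat.card (S ⧸ R) := by
    refine card_sq_le_card hA hS' γ ?_ ?_ ?_
    · intro a s
      induction s using QuotientAddGroup.induction_on with
      | _ s => rw [hγ]; exact alt a s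
    · intro a ha s
      induction s using QuotientAddGroup.induction_on with
      | _ s =>
        intro h3
        rw [QuotientAddGroup.eq_zero_iff]
        refine (hR a ha s).1 fun t => ?_
        have := h3 (t : S ⧸ R)
        rwa [hγ] at this
    · exact QuotientAddGroup.nontrivial_iff.2 h1
  exact h2

end abs

end Cfsg.Agent.Omega.NearFF.Pfaff

end

section


/-!
# N1, (BT) with `|V / E| = 2`: the abstract statement (project OMEGA, assembler helper406)

The structure is helper132's `NearFF.Dat`.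
-/

set_option autoImplicit false

namespace Cfsg.Agent.Omega.NO1.Two

open MulAction Cfsg.Agent.Omega.Transv Cfsg.Agent.Omega.NearFF

/-- **(BT) for `|V / E| = 2`, `|Z| = 2`, abstract form**: the statement (+) of #13987.  (Then `|V| = 16` and `Y`
induces at least `A₅` on `Ω`, `|Ω| = 5`: `NearFF/PlusFam.lean` of helper710.) -/
def BTAbs.{u} : Prop :=
  ∀ (Y V : Type u) [Group Y] [Finite Y] [AddCommGroup V] [Finite V] [Module (ZMod 2) V] [DistribMulAction Y V]
    (T : Sylow 2 Y) (M : Subgroup Y) (z : V) (f : V → Du V) (Q : V → Subgroup Y) (BB : V → Set (Subgroup Y)),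
    Dat T M z f Q BB → ∀ g : Y, f z (g • z) = 0 → g ∈ M

end Cfsg.Agent.Omega.NO1.Two

end

section


/-!
# (BT), `|V/E| = 2`: the statement (+) finishes (helper575 #13987 (1)-(3), referee helper417 #14203)

`Y` acts on the elementary abelian 2-group `V`, `Om = z^Y` generates `V`, `E x` (`x ∈ Om`) is a `Y`-invariant family
of subgroups of index at most 2, `x ∈ E x`, `r x y` is the relation "`M_x = M_y`" on `Om`, `B ≤ Y_z`.

* `Hyp` : the hypotheses, `plus` is (+) : `y ∈ E x → r x y`;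
* `main` : `|V| = 16`, `Om` consists of five vectors with product 1.
-/

set_option autoImplicit false

namespace Cfsg.Agent.Omega.NearFF.Plus

open Subgroup

variable {Y V : Type*} [Group Y] [CommGroup V] [MulDistribMulAction Y V]

/-- `Om` -/
abbrev Om (Y : Type*) {V : Type*} [Group Y] [CommGroup V] [MulDistribMulAction Y V] (z : V) : Set V :=
  MulAction.orbit Y z

/-- fixed points of `B` -/
def fx (B : Subgroup Y) : Subgroup V where
  carrier := {v | ∀ b ∈ B, b • v = v}
  one_mem' := fun b _ => smul_one b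
  mul_mem' := fun {u v} hu hv b hb => by rw [smul_mul', hu b hb, hv b hb]
  inv_mem' := fun {u} hu b hb => by rw [smul_inv', hu b hb]

theorem mem_fx {B : Subgroup Y} {v : V} : v ∈ fx B ↔ ∀ b ∈ B, b • v = v := Iff.rfl

/-- The hypotheses of #13987, (+) = `plus`. -/
structure Hyp (z : V) (E : V → Subgroup V) (r : V → V → Prop) (B : Subgroup Y) : Prop where
  sq : ∀ v : V, v * v = 1
  gen : closure (Om Y z) = ⊤
  E_smul : ∀ g : Y, ∀ x ∈ Om Y z, ∀ v, g • v ∈ E (g • x) ↔ v ∈ E x
  E_self : ∀ x ∈ Om Y z, x ∈ E x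
  E_two : ∀ x ∈ Om Y z, ∀ u v, u ∉ E x → v ∉ E x → u * v ∈ E x
  refl : ∀ x ∈ Om Y z, r x x
  symm : ∀ x ∈ Om Y z, ∀ y ∈ Om Y z, r x y → r y x
  trans : ∀ x ∈ Om Y z, ∀ y ∈ Om Y z, ∀ w ∈ Om Y z, r x y → r y w → r x w
  inv : ∀ g : Y, ∀ x ∈ Om Y z, ∀ y ∈ Om Y z, r x y → r (g • x) (g • y)
  ne : ∃ x ∈ Om Y z, ¬ r z x
  fix_z : ∀ b ∈ B, b • z = z
  four : 4 ≤ Nat.card B
  free : ∀ a ∈ B, a ≠ 1 → ∀ v : V, a • v = v → v ∈ E z
  fixed : ∀ a ∈ B, ∀ x ∈ Om Y z, r (a • x) x → ∃ y ∈ Om Y z, r y x ∧ a • y = y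
  idx : (fx B : Subgroup V).index ≤ 2 * Nat.card B
  core : ∀ v : V, (∀ g : Y, g • v ∈ fx B) → v = 1
  plus : ∀ x ∈ Om Y z, ∀ y ∈ Om Y z, y ∈ E x → r x y

/-- The count. -/
theorem count [Finite V] {B : Type*} [Finite B] {U : Type*} [CommGroup U] [Finite U] (Φ : V →* (B → U))
    (hs : Function.Surjective Φ) {C : Subgroup V} (hC : ∀ v ∈ C, ∀ b b', Φ v b = Φ v b')
    (hB : 4 ≤ Nat.card B) (hU : 2 ≤ Nat.card U) (hi : C.index ≤ 2 * Nat.card B) :
    Nat.card B = 4 ∧ Nat.card U = 2 ∧ Φ.ker ≤ C := by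
  classical
  let K : Subgroup (B → U) :=
    { carrier := {f | ∀ b b', f b = f b'}
      one_mem' := fun _ _ => rfl
      mul_mem' := fun {f g} hf hg b b' => by rw [Pi.mul_apply, Pi.mul_apply, hf b b', hg b b']
      inv_mem' := fun {f} hf b b' => by rw [Pi.inv_apply, Pi.inv_apply, hf b b'] }
  have hne : Nonempty B := by
    by_contra h
    rw [not_nonempty_iff] at h
    rw [Nat.card_of_isEmpty] at hB
    omega
  obtain ⟨b₀⟩ := hne
  have hK : Nat.card K = Nat.card U := by
    refine Nat.card_congr ⟨fun f => f.1 b₀, fun u => ⟨fun _ => u, fun _ _ => rfl⟩, ?_, fun u => rfl⟩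
    rintro ⟨f, hf⟩
    exact Subtype.ext (funext fun b => hf b₀ b)
  have hKi : Nat.card U * K.index = Nat.card U ^ Nat.card B := by
    rw [← hK, Subgroup.card_mul_index, Nat.card_fun, hK]
  have hCK : C ≤ K.comap Φ := fun v hv => hC v hv
  have hidx : (K.comap Φ).index = K.index := Subgroup.index_comap_of_surjective K hs
  have hle : K.index ≤ C.index := by
    rw [← hidx]
    exact Nat.le_of_dvd (Nat.pos_of_ne_zero C.index_ne_zero_of_finite) (Subgroup.index_dvd_of_le hCK)
  obtain ⟨n, hn⟩ : ∃ n, Nat.card B = n + 1 := ⟨Nat.card B - 1, by omega⟩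
  have hKi' : K.index = Nat.card U ^ n := by
    rw [hn, pow_succ'] at hKi
    exact Nat.eq_of_mul_eq_mul_left (by omega) hKi
  have h1 : Nat.card U ^ n ≤ 2 * (n + 1) := by
    rw [← hKi', ← hn]
    exact hle.trans hi
  have h2 : 2 ^ n ≤ 2 * (n + 1) := (Nat.pow_le_pow_left hU n).trans h1
  have h3 : n = 3 := by
    have h4 : n < 4 := by
      by_contra h5
      push Not at h5
      have h6 : ∀ m, 4 ≤ m → 2 * (m + 1) < 2 ^ m := by
        intro m hm
        induction m, hm using Nat.le_induction with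
        | base => norm_num
        | succ m hm ih => rw [pow_succ]; omega
      exact absurd h2 (not_le.2 (h6 n h5))
    omega
  subst h3
  have h5 : Nat.card U = 2 := by
    have h6 : Nat.card U < 3 := by
      by_contra h7
      push Not at h7
      have := Nat.pow_le_pow_left h7 3
      omega
    omega
  refine ⟨hn, h5, ?_⟩
  have h6 : C = K.comap Φ := by
    refine Subgroup.eq_of_le_of_card_ge hCK ?_
    have h7 : C.index ≤ (K.comap Φ).index := by
      rw [hidx, hKi', h5]
      calc C.index ≤ 2 * Nat.card B := hi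
        _ = 2 ^ 3 := by rw [hn]; norm_num
    have h8 := C.card_mul_index
    have h9 := (K.comap Φ).card_mul_index
    have h10 : 0 < (K.comap Φ).index := Nat.pos_of_ne_zero (Subgroup.index_ne_zero_of_finite)
    have h11 : Nat.card (K.comap Φ) * (K.comap Φ).index ≤ Nat.card C * (K.comap Φ).index := by
      rw [h9, ← h8]
      exact Nat.mul_le_mul_left _ h7
    exact Nat.le_of_mul_le_mul_right h11 h10
  rw [h6]
  intro v hv
  rw [MonoidHom.mem_ker] at hv
  rw [mem_comap, hv]
  exact K.one_mem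

/-- surjectivity onto a function space -/
theorem surj_of {B : Type*} [Finite B] [DecidableEq B] {U : Type*} [CommGroup U] (Φ : V →* (B → U))
    (h : ∀ b u, ∃ v, Φ v = Pi.mulSingle b u) : Function.Surjective Φ := by
  classical
  haveI := Fintype.ofFinite B
  intro f
  choose w hw using fun b => h b (f b)
  refine ⟨∏ b, w b, ?_⟩
  rw [map_prod]
  simp only [hw]
  exact Finset.univ_prod_mulSingle f

theorem smul_mem_Om {z x : V} (g : Y) (hx : x ∈ Om Y z) : g • x ∈ Om Y z := by
  obtain ⟨h, rfl⟩ := hx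
  exact ⟨g * h, mul_smul g h z⟩

theorem z_mem_Om (z : V) : z ∈ Om Y z := MulAction.mem_orbit_self z

/-- `W_x`, generated by the vectors of the other points -/
def W (Y : Type*) [Group Y] [MulDistribMulAction Y V] (z : V) (r : V → V → Prop) (x : V) : Subgroup V :=
  closure {y | y ∈ Om Y z ∧ ¬ r x y}

namespace Hyp

variable {z : V} {E : V → Subgroup V} {r : V → V → Prop} {B : Subgroup Y}
variable (h : Hyp z E r B)
include h

theorem inv' (g : Y) {x y : V} (hx : x ∈ Om Y z) (hy : y ∈ Om Y z) (hr : r (g • x) (g • y)) : r x y := by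
  have := h.inv g⁻¹ _ (smul_mem_Om g hx) _ (smul_mem_Om g hy) hr
  rwa [inv_smul_smul, inv_smul_smul] at this

/-- (1): `B` acts freely on the points `≠ M_z` -/
theorem not_r {a : Y} (ha : a ∈ B) (ha1 : a ≠ 1) {x : V} (hx : x ∈ Om Y z) (hzx : ¬ r z x) : ¬ r (a • x) x := by
  intro h1
  obtain ⟨y, hy, h2, h3⟩ := h.fixed a ha x hx h1
  exact hzx (h.trans z (z_mem_Om z) y hy x hx (h.plus z (z_mem_Om z) y hy (h.free a ha ha1 y h3)) h2)

theorem not_r_smul {b : Y} (hb : b ∈ B) {x : V} (hx : x ∈ Om Y z) (hzx : ¬ r z x) : ¬ r z (b • x) := by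
  intro h1
  apply hzx
  refine h.inv' b (z_mem_Om z) hx ?_
  rwa [h.fix_z b hb]

theorem r_smul {b b' : Y} (hb : b ∈ B) (hb' : b' ∈ B) {x : V} (hx : x ∈ Om Y z) (hzx : ¬ r z x)
    (h1 : r (b • x) (b' • x)) : b = b' := by
  by_contra hne
  refine h.not_r (a := b'⁻¹ * b) (mul_mem (inv_mem hb') hb) ?_ hx hzx ?_
  · intro h2
    exact hne (inv_mul_eq_one.1 h2).symm
  · have h3 := h.inv b'⁻¹ _ (smul_mem_Om b hx) _ (smul_mem_Om b' hx) h1
    rwa [inv_smul_smul, ← mul_smul] at h3

theorem inv_eq (v : V) : v⁻¹ = v := inv_eq_of_mul_eq_one_left (h.sq v)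

theorem z_mem_fx : z ∈ fx (V := V) B := h.fix_z

/-- the vectors of the points `≠ M_z` are not fixed by `B` -/
theorem not_mem_fx {x : V} (hx : x ∈ Om Y z) (hzx : ¬ r z x) : x ∉ fx (V := V) B := by
  intro h1
  obtain ⟨b, hb⟩ : ∃ b : B, b ≠ 1 := by
    by_contra hcon
    push Not at hcon
    have : Nat.card B ≤ 1 := by
      haveI : Subsingleton B := ⟨fun a b => by rw [hcon a, hcon b]⟩
      exact Finite.card_le_one_iff_subsingleton.2 inferInstance
    have := h.four
    omega
  refine h.not_r b.2 (fun h2 => hb (Subtype.ext h2)) hx hzx ?_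
  rw [h1 b b.2]
  exact h.refl x hx

/-- an invariant subgroup in `C_V(B)` is trivial -/
theorem eq_bot {K : Subgroup V} (hK : ∀ g : Y, ∀ v ∈ K, g • v ∈ K) (hKB : K ≤ fx B) : K = ⊥ := by
  rw [eq_bot_iff]
  intro v hv
  rw [mem_bot]
  exact h.core v fun g => hKB (hK g v hv)

theorem smul_W (g : Y) {x : V} (hx : x ∈ Om Y z) {v : V} (hv : v ∈ W Y z r x) : g • v ∈ W Y z r (g • x) := by
  have h1 : W Y z r x ≤ (W Y z r (g • x)).comap (MulDistribMulAction.toMonoidHom V g) := by
    refine (closure_le _).2 ?_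
    rintro y ⟨hy, hxy⟩
    refine subset_closure ⟨smul_mem_Om g hy, fun h2 => hxy (h.inv' g hx hy h2)⟩
  exact h1 hv

theorem smul_W_iff (g : Y) {x : V} (hx : x ∈ Om Y z) {v : V} : g • v ∈ W Y z r (g • x) ↔ v ∈ W Y z r x := by
  refine ⟨fun h1 => ?_, h.smul_W g hx⟩
  have := h.smul_W g⁻¹ (smul_mem_Om g hx) h1
  rwa [inv_smul_smul, inv_smul_smul] at this

theorem W_congr {x y : V} (hx : x ∈ Om Y z) (hy : y ∈ Om Y z) (hr : r x y) : W Y z r x = W Y z r y := by
  unfold W
  congr 1
  ext w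
  constructor
  · rintro ⟨hw, h1⟩
    exact ⟨hw, fun h2 => h1 (h.trans x hx y hy w hw hr h2)⟩
  · rintro ⟨hw, h1⟩
    exact ⟨hw, fun h2 => h1 (h.trans y hy x hx w hw (h.symm x hx y hy hr) h2)⟩

/-! ### Case A: `W_x = V` -/

open Classical in
/-- the linear form `f_x` -/
noncomputable def chi {x : V} (hx : x ∈ Om Y z) : V →* ℤˣ :=
  { toFun := fun v => if v ∈ E x then 1 else -1
    map_one' := by rw [if_pos (one_mem _)]
    map_mul' := fun u v => by
      by_cases hu : u ∈ E x
      · by_cases hv : v ∈ E x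
        · rw [if_pos hu, if_pos hv, if_pos (mul_mem hu hv), one_mul]
        · rw [if_pos hu, if_neg hv, if_neg, one_mul]
          exact fun h1 => hv (by simpa using mul_mem (inv_mem hu) h1)
      · by_cases hv : v ∈ E x
        · rw [if_neg hu, if_pos hv, if_neg, mul_one]
          exact fun h1 => hu (by simpa using mul_mem h1 (inv_mem hv))
        · rw [if_neg hu, if_neg hv, if_pos (h.E_two x hx u v hu hv)]
          norm_num }

theorem chi_pos {x : V} (hx : x ∈ Om Y z) {v : V} (hv : v ∈ E x) : h.chi hx v = 1 := if_pos hv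

theorem chi_neg {x : V} (hx : x ∈ Om Y z) {v : V} (hv : v ∉ E x) : h.chi hx v = -1 := if_neg hv

theorem chi_eq_one {x : V} (hx : x ∈ Om Y z) {v : V} : h.chi hx v = 1 ↔ v ∈ E x := by
  constructor
  · intro h1
    by_contra h2
    rw [h.chi_neg hx h2] at h1
    exact absurd h1 (by decide)
  · exact h.chi_pos hx

/-- the map `V → F_2^B`, `v ↦ (f_{bx}(v))_b` -/
noncomputable def phi {x : V} (hx : x ∈ Om Y z) : V →* (B → ℤˣ) :=
  MonoidHom.pi fun b : B => h.chi (smul_mem_Om (b : Y) hx)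

theorem phi_apply {x : V} (hx : x ∈ Om Y z) (v : V) (b : B) :
    h.phi hx v b = h.chi (smul_mem_Om (b : Y) hx) v := rfl

theorem phi_neg {x : V} (hx : x ∈ Om Y z) {v : V} (hv : v ∈ Om Y z) {b : B} (hr : ¬ r ((b : Y) • x) v) :
    h.phi hx v b = -1 :=
  h.chi_neg (smul_mem_Om (b : Y) hx) fun h1 => hr (h.plus _ (smul_mem_Om _ hx) v hv h1)

theorem phi_pos {x : V} (hx : x ∈ Om Y z) (b : B) : h.phi hx ((b : Y) • x) b = 1 :=
  h.chi_pos (smul_mem_Om (b : Y) hx) (h.E_self _ (smul_mem_Om _ hx))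

theorem not_r_z {x : V} (hx : x ∈ Om Y z) (hzx : ¬ r z x) (b : B) : ¬ r ((b : Y) • x) z := fun h1 =>
  h.not_r_smul b.2 hx hzx (h.symm _ (smul_mem_Om _ hx) _ (z_mem_Om z) h1)

variable [Finite V] [Finite Y]

/-- **Case A, the count.** -/
theorem caseA_count {x : V} (hx : x ∈ Om Y z) (hzx : ¬ r z x) :
    Function.Surjective (h.phi hx) ∧ Nat.card B = 4 ∧ (h.phi hx).ker ≤ fx B := by
  classical
  have hs : Function.Surjective (h.phi hx) := by
    refine surj_of _ fun b u => ?_
    rcases Int.units_eq_one_or u with rfl | rfl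
    · exact ⟨1, by rw [map_one, Pi.mulSingle_one]⟩
    · refine ⟨z * ((b : Y) • x), funext fun b' => ?_⟩
      rw [map_mul, Pi.mul_apply, h.phi_neg hx (z_mem_Om z) (h.not_r_z hx hzx b')]
      by_cases hb : b' = b
      · subst hb
        rw [h.phi_pos hx b', Pi.mulSingle_eq_same]; norm_num
      · rw [Pi.mulSingle_eq_of_ne hb, h.phi_neg hx (smul_mem_Om _ hx)]
        · norm_num
        · exact fun h1 => hb (Subtype.ext (h.r_smul b'.2 b.2 hx hzx h1))
  have hC : ∀ v ∈ fx (V := V) B, ∀ b b', h.phi hx v b = h.phi hx v b' := by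
    intro v hv b b'
    have key : ∀ b : B, h.phi hx v b = h.chi hx v := by
      intro b
      by_cases hvx : v ∈ E x
      · rw [h.chi_pos hx hvx, h.phi_apply, h.chi_pos]
        have := (h.E_smul b x hx v).2 hvx
        rwa [hv b b.2] at this
      · rw [h.chi_neg hx hvx, h.phi_apply, h.chi_neg]
        intro h2
        apply hvx
        have h4 := h.E_smul b x hx v
        rw [hv b b.2] at h4
        exact h4.1 h2
    rw [key b, key b']
  obtain ⟨h1, -, h3⟩ := count (h.phi hx) hs (C := fx B) hC h.four (by simp) h.idx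
  exact ⟨hs, h1, h3⟩

/-- every point `≠ M_z` is in the `B`-orbit of `M_x` -/
theorem caseA_orbit {x : V} (hx : x ∈ Om Y z) (hzx : ¬ r z x) {w : V} (hw : w ∈ Om Y z) (hzw : ¬ r z w) :
    ∃ b : B, r ((b : Y) • x) w := by
  by_contra hcon
  push Not at hcon
  obtain ⟨-, -, h3⟩ := h.caseA_count hx hzx
  have h1 : z * w ∈ (h.phi hx).ker := by
    rw [MonoidHom.mem_ker]
    funext b
    rw [map_mul, Pi.mul_apply, h.phi_neg hx (z_mem_Om z) (h.not_r_z hx hzx b), h.phi_neg hx hw (hcon b)]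
    norm_num
  have h2 := (fx B).mul_mem ((fx B).inv_mem h.z_mem_fx) (h3 h1)
  rw [inv_mul_cancel_left] at h2
  exact h.not_mem_fx hw hzw h2

omit [Finite V] [Finite Y] in
theorem caseA_congr (hA : ∀ x ∈ Om Y z, W Y z r x = ⊤) {x y : V} (hx : x ∈ Om Y z) (hy : y ∈ Om Y z)
    (hr : r x y) : h.chi hx = h.chi hy := by
  refine MonoidHom.eq_of_eqOn_dense (hA x hx) ?_
  rintro w ⟨hw, hxw⟩
  rw [h.chi_neg hx fun h1 => hxw (h.plus x hx w hw h1), h.chi_neg hy fun h1 => hxw
    (h.trans x hx y hy w hw hr (h.plus y hy w hw h1))]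

omit [Finite V] [Finite Y] in
theorem caseA_self (hA : ∀ x ∈ Om Y z, W Y z r x = ⊤) {x y : V} (hx : x ∈ Om Y z) (hy : y ∈ Om Y z)
    (hr : r x y) : h.chi hx y = 1 := by
  rw [h.caseA_congr hA hx hy hr]
  exact h.chi_pos hy (h.E_self y hy)

/-- parity -/
theorem caseA_parity [Fintype B] (hA : ∀ x ∈ Om Y z, W Y z r x = ⊤) {x : V} (hx : x ∈ Om Y z)
    (hzx : ¬ r z x) : h.chi (z_mem_Om z) = ∏ b : B, h.chi (smul_mem_Om (b : Y) hx) := by
  classical
  obtain ⟨-, h2, -⟩ := h.caseA_count hx hzx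
  rw [Nat.card_eq_fintype_card] at h2
  refine MonoidHom.eq_of_eqOn_dense h.gen ?_
  intro y hy
  rw [MonoidHom.finset_prod_apply]
  by_cases hzy : r z y
  · rw [h.caseA_self hA (z_mem_Om z) hy hzy]
    rw [Finset.prod_congr rfl fun (b : B) _ => h.chi_neg (smul_mem_Om (b : Y) hx) (v := y) fun h1 =>
      h.not_r_z hx hzx b (h.trans _ (smul_mem_Om _ hx) y hy z (z_mem_Om z)
        (h.plus _ (smul_mem_Om _ hx) y hy h1) (h.symm z (z_mem_Om z) y hy hzy))]
    rw [Finset.prod_const, Finset.card_univ, h2]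
    norm_num
  · rw [h.chi_neg (z_mem_Om z) fun h1 => hzy (h.plus z (z_mem_Om z) y hy h1)]
    obtain ⟨b₀, hb₀⟩ := h.caseA_orbit hx hzx hy hzy
    have key : ∀ b : B, h.chi (smul_mem_Om (b : Y) hx) y = (-1) * (if b = b₀ then -1 else 1) := by
      intro b
      by_cases hb : b = b₀
      · subst hb
        rw [if_pos rfl, h.caseA_self hA (smul_mem_Om (b : Y) hx) hy hb₀]; norm_num
      · rw [if_neg hb, h.chi_neg, mul_one]
        intro h1
        have h3 := h.plus _ (smul_mem_Om (b : Y) hx) y hy h1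
        exact hb (Subtype.ext (h.r_smul b.2 b₀.2 hx hzx (h.trans _ (smul_mem_Om _ hx) y hy _ (smul_mem_Om _ hx) h3
          (h.symm _ (smul_mem_Om _ hx) y hy hb₀))))
    rw [Finset.prod_congr rfl fun b _ => key b, Finset.prod_mul_distrib, Finset.prod_const, Finset.card_univ, h2,
      Finset.prod_ite_eq' Finset.univ b₀ (fun _ => (-1 : ℤˣ)), if_pos (Finset.mem_univ _)]
    norm_num

theorem caseA_inj (hA : ∀ x ∈ Om Y z, W Y z r x = ⊤) {x : V} (hx : x ∈ Om Y z) (hzx : ¬ r z x) :
    Function.Injective (h.phi hx) := by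
  classical
  haveI := Fintype.ofFinite B
  obtain ⟨-, -, h3⟩ := h.caseA_count hx hzx
  -- the kernel of all `f_x`
  let K : Subgroup V := ⨅ x : Om Y z, E x
  have hK : ∀ v, v ∈ K ↔ ∀ x ∈ Om Y z, v ∈ E x := fun v => by
    simp only [K, mem_iInf, Subtype.forall]
  have h4 : K ≤ (h.phi hx).ker := by
    intro v hv
    rw [MonoidHom.mem_ker]
    funext b
    exact h.chi_pos (smul_mem_Om (b : Y) hx) ((hK v).1 hv _ (smul_mem_Om _ hx))
  have h5 : K = ⊥ := by
    refine h.eq_bot (fun g v hv => (hK _).2 fun y hy => ?_) (h4.trans h3)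
    have h6 := (h.E_smul g _ (smul_mem_Om g⁻¹ hy) v).2 ((hK v).1 hv _ (smul_mem_Om g⁻¹ hy))
    rwa [smul_inv_smul] at h6
  rw [← MonoidHom.ker_eq_bot_iff, eq_bot_iff, ← h5]
  intro v hv
  rw [MonoidHom.mem_ker] at hv
  have hb : ∀ b : B, h.chi (smul_mem_Om (b : Y) hx) v = 1 := fun b => congrFun hv b
  have hz : h.chi (z_mem_Om z) v = 1 := by
    rw [h.caseA_parity hA hx hzx, MonoidHom.finset_prod_apply]
    exact Finset.prod_eq_one fun b _ => hb b
  refine (hK v).2 fun y hy => ?_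
  rw [← h.chi_eq_one hy]
  by_cases hzy : r z y
  · rw [← h.caseA_congr hA (z_mem_Om z) hy hzy, hz]
  · obtain ⟨b, hb'⟩ := h.caseA_orbit hx hzx hy hzy
    rw [← h.caseA_congr hA (smul_mem_Om (b : Y) hx) hy hb', hb]

/-- one vector for each point -/
theorem caseA_eq (hA : ∀ x ∈ Om Y z, W Y z r x = ⊤) {y y' : V} (hy : y ∈ Om Y z) (hy' : y' ∈ Om Y z)
    (hr : r y y') : y = y' := by
  obtain ⟨x, hx, hzx⟩ := h.ne
  apply h.caseA_inj hA hx hzx
  funext b
  by_cases hb : r ((b : Y) • x) y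
  · have hb' := h.trans _ (smul_mem_Om (b : Y) hx) y hy y' hy' hb hr
    rw [h.phi_apply, h.phi_apply, h.caseA_self hA _ hy hb, h.caseA_self hA _ hy' hb']
  · rw [h.phi_neg hx hy hb, h.phi_neg hx hy' fun hb' => hb (h.trans _ (smul_mem_Om (b : Y) hx) y' hy' y hy hb'
      (h.symm y hy y' hy' hr))]

theorem caseA_prod [Fintype B] (hA : ∀ x ∈ Om Y z, W Y z r x = ⊤) {x : V} (hx : x ∈ Om Y z) (hzx : ¬ r z x) :
    z * ∏ b : B, (b : Y) • x = 1 := by
  classical
  obtain ⟨-, h2, -⟩ := h.caseA_count hx hzx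
  rw [Nat.card_eq_fintype_card] at h2
  apply h.caseA_inj hA hx hzx
  rw [map_one]
  funext b'
  rw [map_mul, Pi.mul_apply, h.phi_neg hx (z_mem_Om z) (h.not_r_z hx hzx b'), map_prod, Finset.prod_apply]
  have key : ∀ b : B, h.phi hx ((b : Y) • x) b' = (-1) * (if b = b' then -1 else 1) := by
    intro b
    by_cases hb : b = b'
    · subst hb
      rw [if_pos rfl, h.phi_pos hx b]; norm_num
    · rw [if_neg hb, h.phi_neg hx (smul_mem_Om (b : Y) hx), mul_one]
      exact fun h1 => hb (Subtype.ext (h.r_smul b'.2 b.2 hx hzx h1)).symm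
  rw [Finset.prod_congr rfl fun b _ => key b, Finset.prod_mul_distrib, Finset.prod_const, Finset.card_univ, h2,
    Finset.prod_ite_eq' Finset.univ b' (fun _ => (-1 : ℤˣ)), if_pos (Finset.mem_univ _), Pi.one_apply]
  norm_num

theorem caseA_card (hA : ∀ x ∈ Om Y z, W Y z r x = ⊤) : Nat.card V = 16 := by
  obtain ⟨x, hx, hzx⟩ := h.ne
  obtain ⟨h1, h2, -⟩ := h.caseA_count hx hzx
  rw [Nat.card_congr (Equiv.ofBijective _ ⟨h.caseA_inj hA hx hzx, h1⟩), Nat.card_fun, h2]
  simp

/-! ### Case B: `W_x ≠ V` -/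

/-- the map `V → (V/W_x)^B` -/
def psi (_ : Hyp z E r B) (x : V) : V →* (B → V ⧸ W Y z r x) :=
  MonoidHom.pi fun b : B => (QuotientGroup.mk' (W Y z r x)).comp (MulDistribMulAction.toMonoidHom V (b⁻¹ : Y))

omit [Finite V] [Finite Y] in
theorem psi_apply (x v : V) (b : B) : h.psi x v b = QuotientGroup.mk' (W Y z r x) ((b : Y)⁻¹ • v) := rfl

omit [Finite V] [Finite Y] in
theorem psi_one {x v : V} {b : B} (hv : (b : Y)⁻¹ • v ∈ W Y z r x) : h.psi x v b = 1 := by
  rw [psi_apply, QuotientGroup.mk'_apply, QuotientGroup.eq_one_iff]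
  exact hv

theorem caseB_count {x : V} (hx : x ∈ Om Y z) (hzx : ¬ r z x) (hW : W Y z r x ≠ ⊤) :
    Nat.card B = 4 ∧ Nat.card (V ⧸ W Y z r x) = 2 ∧ (h.psi x).ker ≤ fx B := by
  classical
  have hs : Function.Surjective (h.psi x) := by
    refine surj_of _ fun b u => ?_
    obtain ⟨v, rfl⟩ := QuotientGroup.mk'_surjective _ u
    -- the subgroup of good `v`
    let K : Subgroup V := ((h.psi x).range.comap (MonoidHom.mulSingle (fun _ : B => V ⧸ W Y z r x) b)).comap
      (QuotientGroup.mk' (W Y z r x))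
    have hK : K = ⊤ := by
      rw [eq_top_iff, ← h.gen]
      refine (closure_le _).2 fun y hy => ?_
      by_cases hxy : r x y
      · refine ⟨(b : Y) • y, funext fun b' => ?_⟩
        rw [MonoidHom.mulSingle_apply, h.psi_apply]
        by_cases hb : b' = b
        · subst hb
          rw [inv_smul_smul, Pi.mulSingle_eq_same]
        · rw [Pi.mulSingle_eq_of_ne hb, ← h.psi_apply]
          refine h.psi_one (subset_closure ⟨smul_mem_Om _ (smul_mem_Om _ hy), fun h1 => ?_⟩)
          have hzy : ¬ r z y := fun h2 => hzx (h.trans z (z_mem_Om z) y hy x hx h2 (h.symm x hx y hy hxy))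
          have h2 := h.symm _ (smul_mem_Om _ (smul_mem_Om _ hy)) _ hy
            (h.symm y hy _ (smul_mem_Om _ (smul_mem_Om _ hy))
              (h.trans y hy x hx _ (smul_mem_Om _ (smul_mem_Om _ hy)) (h.symm x hx y hy hxy) h1)
              |> fun h3 => h3)
          rw [← mul_smul] at h2
          have h3 := h.symm y hy _ (smul_mem_Om _ hy) h2
          refine h.not_r (mul_mem (inv_mem b'.2) b.2) ?_ hy hzy h3
          intro h4
          exact hb (Subtype.ext (inv_mul_eq_one.1 h4))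
      · have h1 : QuotientGroup.mk' (W Y z r x) y = 1 := by
          rw [QuotientGroup.mk'_apply, QuotientGroup.eq_one_iff]
          exact subset_closure ⟨hy, hxy⟩
        change MonoidHom.mulSingle _ b (QuotientGroup.mk' (W Y z r x) y) ∈ (h.psi x).range
        rw [h1, map_one]
        exact one_mem _
    have hv : v ∈ K := hK ▸ mem_top v
    exact hv
  have hU : 2 ≤ Nat.card (V ⧸ W Y z r x) := by
    by_contra h1
    apply hW
    rw [← Subgroup.index_eq_one, Subgroup.index]
    have : 0 < Nat.card (V ⧸ W Y z r x) := Nat.card_pos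
    omega
  have hC : ∀ v ∈ fx (V := V) B, ∀ b b', h.psi x v b = h.psi x v b' := by
    intro v hv b b'
    rw [h.psi_apply, h.psi_apply, hv _ (inv_mem b.2), hv _ (inv_mem b'.2)]
  exact count (h.psi x) hs (C := fx B) hC h.four hU h.idx

omit [Finite V] [Finite Y] in
theorem W_top {x y : V} (hx : x ∈ Om Y z) (hy : y ∈ Om Y z) (hW : W Y z r x = ⊤) : W Y z r y = ⊤ := by
  obtain ⟨a, rfl⟩ := hx
  obtain ⟨c, rfl⟩ := hy
  rw [eq_top_iff]
  intro v _
  have h1 : (c * a⁻¹) • (a • z) = c • z := by rw [← mul_smul, inv_mul_cancel_right]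
  have h2 := h.smul_W (c * a⁻¹) (x := a • z) ⟨a, rfl⟩ (v := (c * a⁻¹)⁻¹ • v) (hW ▸ mem_top _)
  rwa [smul_inv_smul, h1] at h2

/-- **Case B is impossible.** -/
theorem caseB_false {x : V} (hx : x ∈ Om Y z) (hzx : ¬ r z x) (hW : W Y z r x ≠ ⊤) : False := by
  classical
  obtain ⟨-, h2, h3⟩ := h.caseB_count hx hzx hW
  -- index 2
  have two : ∀ y ∈ Om Y z, ∀ u v, u ∉ W Y z r y → v ∉ W Y z r y → u * v ∈ W Y z r y := by
    intro y hy u v hu hv
    obtain ⟨a, rfl⟩ := hx
    obtain ⟨c, rfl⟩ := hy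
    have h1 : (c * a⁻¹) • (a • z) = c • z := by rw [← mul_smul, inv_mul_cancel_right]
    have h4 : ∀ t : V, t ∈ W Y z r (c • z) ↔ (c * a⁻¹)⁻¹ • t ∈ W Y z r (a • z) := by
      intro t
      have := h.smul_W_iff (c * a⁻¹) (x := a • z) ⟨a, rfl⟩ (v := (c * a⁻¹)⁻¹ • t)
      rwa [smul_inv_smul, h1] at this
    rw [h4] at hu hv ⊢
    rw [smul_mul', Subgroup.mul_mem_iff_of_index_two h2]
    exact ⟨fun h5 => absurd h5 hu, fun h5 => absurd h5 hv⟩
  let K : Subgroup V := ⨅ x : Om Y z, W Y z r x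
  have hK : ∀ v, v ∈ K ↔ ∀ x ∈ Om Y z, v ∈ W Y z r x := fun v => by
    simp only [K, mem_iInf, Subtype.forall]
  have h4 : K ≤ (h.psi x).ker := by
    intro v hv
    rw [MonoidHom.mem_ker]
    funext b
    refine h.psi_one ?_
    rw [← h.smul_W_iff (b : Y) hx, smul_inv_smul]
    exact (hK v).1 hv _ (smul_mem_Om _ hx)
  have h5 : K = ⊥ := by
    refine h.eq_bot (fun g v hv => (hK _).2 fun y hy => ?_) (h4.trans h3)
    have h6 := h.smul_W g (smul_mem_Om g⁻¹ hy) ((hK v).1 hv _ (smul_mem_Om g⁻¹ hy))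
    rwa [smul_inv_smul] at h6
  -- `x ∉ W_x`
  have hself : ∀ y ∈ Om Y z, y ∉ W Y z r y := by
    intro y hy h1
    have h6 : ∀ y' ∈ Om Y z, y' ∈ W Y z r y' := by
      intro y' hy'
      obtain ⟨a, rfl⟩ := hy
      obtain ⟨c, rfl⟩ := hy'
      have h7 : (c * a⁻¹) • (a • z) = c • z := by rw [← mul_smul, inv_mul_cancel_right]
      have h8 := h.smul_W (c * a⁻¹) (x := a • z) ⟨a, rfl⟩ h1
      rwa [h7] at h8
    apply hW
    rw [eq_top_iff, ← h.gen]
    refine (closure_le _).2 fun y' hy' => ?_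
    by_cases hr : r x y'
    · rw [h.W_congr hx hy' hr]
      exact h6 y' hy'
    · exact subset_closure ⟨hy', hr⟩
  have heq : ∀ y ∈ Om Y z, ∀ y' ∈ Om Y z, r y y' → y = y' := by
    intro y hy y' hy' hr
    have h6 : y * y' ∈ K := by
      refine (hK _).2 fun w hw => ?_
      by_cases hwy : r w y
      · refine two w hw y y' ?_ ?_
        · rw [h.W_congr hw hy hwy]; exact hself y hy
        · rw [h.W_congr hw hy' (h.trans w hw y hy y' hy' hwy hr)]; exact hself y' hy'
      · refine mul_mem (subset_closure ⟨hy, hwy⟩) (subset_closure ⟨hy', fun h7 => hwy ?_⟩)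
        exact h.trans w hw y' hy' y hy h7 (h.symm y hy y' hy' hr)
    rw [h5, mem_bot] at h6
    rw [← h.inv_eq y']
    exact mul_eq_one_iff_eq_inv.1 h6
  -- the product of all vectors of `Om`
  have hfin : (Om Y z).Finite := Set.toFinite _
  set O : Finset V := hfin.toFinset with hO
  have hmem : ∀ v, v ∈ O ↔ v ∈ Om Y z := fun v => hfin.mem_toFinset
  have hs : ∀ g : Y, g • (∏ v ∈ O, v) = ∏ v ∈ O, v := by
    intro g
    rw [Finset.smul_prod']
    refine Finset.prod_bij' (fun v _ => g • v) (fun v _ => g⁻¹ • v) ?_ ?_ ?_ ?_ ?_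
    · intro v hv; exact (hmem _).2 (smul_mem_Om g ((hmem v).1 hv))
    · intro v hv; exact (hmem _).2 (smul_mem_Om g⁻¹ ((hmem v).1 hv))
    · intro v _; exact inv_smul_smul g v
    · intro v _; exact smul_inv_smul g v
    · intro v _; rfl
  have hs1 : ∏ v ∈ O, v = 1 := h.core _ fun g => by
    rw [hs g]
    exact fun b _ => hs b
  have hzO : z ∈ O := (hmem z).2 (z_mem_Om z)
  rw [← Finset.mul_prod_erase O (fun v => v) hzO] at hs1
  have h7 : (∏ v ∈ O.erase z, v)⁻¹ ∈ W Y z r z := by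
    refine inv_mem (prod_mem fun v hv => ?_)
    rw [Finset.mem_erase] at hv
    exact subset_closure ⟨(hmem v).1 hv.2, fun h6 => hv.1 (heq z (z_mem_Om z) v ((hmem v).1 hv.2) h6).symm⟩
  rw [← mul_eq_one_iff_eq_inv.1 hs1] at h7
  exact hself z (z_mem_Om z) h7

theorem caseA : ∀ x ∈ Om Y z, W Y z r x = ⊤ := by
  obtain ⟨x, hx, hzx⟩ := h.ne
  by_cases hW : W Y z r x = ⊤
  · exact fun y hy => h.W_top hx hy hW
  · exact (h.caseB_false hx hzx hW).elim

/-- `|V| = 16` -/
theorem card_V : Nat.card V = 16 := h.caseA_card h.caseA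

theorem card_B : Nat.card B = 4 := by
  obtain ⟨x, hx, hzx⟩ := h.ne
  exact (h.caseA_count hx hzx).2.1

/-- one vector for each point -/
theorem eq_of_r {y y' : V} (hy : y ∈ Om Y z) (hy' : y' ∈ Om Y z) (hr : r y y') : y = y' := h.caseA_eq h.caseA hy hy' hr

/-- **(+) finishes**: `Om` consists of five vectors with product 1, the last four form a regular orbit of `B`. -/
theorem exists_five : ∃ w : Fin 5 → V, Function.Injective w ∧ w 0 = z ∧ Set.range w = Om Y z ∧
    w 0 * w 1 * w 2 * w 3 * w 4 = 1 ∧ closure (Set.range w) = ⊤ ∧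
    (∀ b ∈ B, ∀ i, b • w i = w i → b = 1 ∨ i = 0) ∧ (∀ b ∈ B, b • w 0 = w 0) ∧
    ∀ i j, i ≠ 0 → j ≠ 0 → ∃ b ∈ B, b • w i = w j := by
  classical
  haveI := Fintype.ofFinite B
  obtain ⟨x, hx, hzx⟩ := h.ne
  let e : Fin 4 ≃ B := (Finite.equivFinOfCardEq h.card_B).symm
  let w : Fin 5 → V := Fin.cons z fun i => (e i : Y) • x
  have hw0 : w 0 = z := rfl
  have hws : ∀ i : Fin 4, w i.succ = (e i : Y) • x := fun i => rfl
  have hwO : ∀ i, w i ∈ Om Y z := by
    intro i
    refine Fin.cases ?_ (fun i => ?_) i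
    · exact z_mem_Om z
    · rw [hws]; exact smul_mem_Om _ hx
  have hne0 : ∀ i : Fin 4, ¬ r z (w i.succ) := fun i => by
    rw [hws]; exact h.not_r_smul (e i).2 hx hzx
  have hinj : Function.Injective w := by
    intro i j hij
    induction i using Fin.cases with
    | zero =>
      induction j using Fin.cases with
      | zero => rfl
      | succ j =>
        exfalso
        rw [hw0] at hij
        exact hne0 j (hij ▸ h.refl z (z_mem_Om z))
    | succ i =>
      induction j using Fin.cases with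
      | zero =>
        exfalso
        rw [hw0] at hij
        exact hne0 i (hij ▸ h.refl z (z_mem_Om z))
      | succ j =>
        rw [hws, hws] at hij
        have h1 := h.r_smul (e i).2 (e j).2 hx hzx (hij ▸ h.refl _ (smul_mem_Om _ hx))
        rw [e.injective (Subtype.ext h1)]
  have hrange : Set.range w = Om Y z := by
    ext v
    constructor
    · rintro ⟨i, rfl⟩; exact hwO i
    · intro hv
      by_cases hzv : r z v
      · exact ⟨0, by rw [hw0]; exact h.eq_of_r (z_mem_Om z) hv hzv⟩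
      · obtain ⟨b, hb⟩ := h.caseA_orbit hx hzx hv hzv
        refine ⟨(e.symm b).succ, ?_⟩
        rw [hws, e.apply_symm_apply]
        exact h.eq_of_r (smul_mem_Om _ hx) hv hb
  refine ⟨w, hinj, hw0, hrange, ?_, by rw [hrange]; exact h.gen, ?_, ?_, ?_⟩
  · have h1 := h.caseA_prod h.caseA hx hzx
    rw [← e.prod_comp] at h1
    have h2 : ∏ i, w i = z * ∏ i, (e i : Y) • x := Fin.prod_univ_succ w
    rw [h1, Fin.prod_univ_five] at h2
    exact h2
  · intro b hb i hi
    by_cases hb1 : b = 1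
    · exact Or.inl hb1
    · right
      induction i using Fin.cases with
      | zero => rfl
      | succ i =>
        exfalso
        refine h.not_r hb hb1 (hwO i.succ) (hne0 i) ?_
        rw [hi]
        exact h.refl _ (hwO _)
  · intro b hb
    rw [hw0]
    exact h.fix_z b hb
  · intro i j hi hj
    obtain ⟨i, rfl⟩ := Fin.exists_succ_eq.2 hi
    obtain ⟨j, rfl⟩ := Fin.exists_succ_eq.2 hj
    refine ⟨e j * (e i : Y)⁻¹, mul_mem (e j).2 (inv_mem (e i).2), ?_⟩
    rw [hws, hws, mul_smul, inv_smul_smul]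

end Hyp

/-! ### `A₅` -/

/-- the involutions with the only fixed point 0 -/
def Good (τ : Equiv.Perm (Fin 5)) : Prop := τ * τ = 1 ∧ τ 0 = 0 ∧ ∀ i, i ≠ 0 → τ i ≠ i

instance : DecidablePred Good := fun τ => by unfold Good; infer_instance

theorem card_good : (Finset.univ.filter Good).card = 3 := by decide +kernel

/-- a transitive subgroup containing all involutions with the only fixed point 0 contains `A₅` -/
theorem alt_le {H : Subgroup (Equiv.Perm (Fin 5))} (htr : ∀ i, ∃ η ∈ H, η 0 = i) (hg : ∀ τ, Good τ → τ ∈ H) :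
    alternatingGroup (Fin 5) ≤ H := by
  classical
  set τ₀ : Equiv.Perm (Fin 5) := Equiv.swap 1 2 * Equiv.swap 3 4 with hτ
  have hgood : Good τ₀ := by rw [hτ]; decide
  have hK : normalClosure {τ₀} ≤ H := by
    refine (closure_le _).2 ?_
    intro κ hκ
    obtain ⟨σ, rfl⟩ : ∃ σ, σ * τ₀ * σ⁻¹ = κ := by
      rw [Group.mem_conjugatesOfSet_iff] at hκ
      obtain ⟨a, ha, hc⟩ := hκ
      rw [Set.mem_singleton_iff] at ha
      subst ha
      exact isConj_iff.1 hc
    obtain ⟨η, hη, h0⟩ := htr (σ 0)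
    have h1 : Good (η⁻¹ * σ * τ₀ * (η⁻¹ * σ)⁻¹) := by
      have hc0 : (η⁻¹ * σ) 0 = 0 := by
        rw [Equiv.Perm.mul_apply, Equiv.Perm.inv_eq_iff_eq, h0]
      have hc0' : (η⁻¹ * σ)⁻¹ 0 = 0 := by
        rw [Equiv.Perm.inv_eq_iff_eq, hc0]
      refine ⟨?_, ?_, fun i hi h2 => ?_⟩
      · calc η⁻¹ * σ * τ₀ * (η⁻¹ * σ)⁻¹ * (η⁻¹ * σ * τ₀ * (η⁻¹ * σ)⁻¹) = η⁻¹ * σ * (τ₀ * τ₀) * (η⁻¹ * σ)⁻¹ := by group
          _ = 1 := by rw [hgood.1]; group
      · rw [Equiv.Perm.mul_apply, hc0', Equiv.Perm.mul_apply, hgood.2.1, hc0]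
      · rw [Equiv.Perm.mul_apply, Equiv.Perm.mul_apply (η⁻¹ * σ) τ₀] at h2
        have h3 : τ₀ ((η⁻¹ * σ)⁻¹ i) = (η⁻¹ * σ)⁻¹ i := by
          rw [Equiv.Perm.eq_inv_iff_eq]; exact h2
        have h4 : (η⁻¹ * σ)⁻¹ i = 0 := by
          by_contra h5
          exact hgood.2.2 _ h5 h3
        apply hi
        rw [Equiv.Perm.inv_eq_iff_eq, hc0] at h4
        exact h4
    have h2 := H.mul_mem (H.mul_mem hη (hg _ h1)) (H.inv_mem hη)
    have h3 : η * (η⁻¹ * σ * τ₀ * (η⁻¹ * σ)⁻¹) * η⁻¹ = σ * τ₀ * σ⁻¹ := by group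
    rwa [h3] at h2
  refine le_trans ?_ hK
  have hn : ((normalClosure {τ₀}).subgroupOf (alternatingGroup (Fin 5))).Normal := inferInstance
  have hτA : τ₀ ∈ alternatingGroup (Fin 5) := by
    rw [hτ, Equiv.Perm.mem_alternatingGroup]
    decide
  haveI : IsSimpleGroup (alternatingGroup (Fin 5)) := alternatingGroup.isSimpleGroup_five
  rcases hn.eq_bot_or_eq_top with h1 | h1
  · exfalso
    have h2 : (⟨τ₀, hτA⟩ : alternatingGroup (Fin 5)) ∈ (normalClosure {τ₀}).subgroupOf (alternatingGroup (Fin 5)) := by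
      rw [mem_subgroupOf]
      exact subset_normalClosure rfl
    rw [h1, mem_bot] at h2
    have h3 : τ₀ = 1 := congrArg Subtype.val h2
    have h4 := hgood.2.2 1 (by decide)
    rw [h3] at h4
    exact h4 rfl
  · rw [subgroupOf_eq_top] at h1
    exact h1

namespace Hyp

variable {z : V} {E : V → Subgroup V} {r : V → V → Prop} {B : Subgroup Y}
variable (h : Hyp z E r B) [Finite V] [Finite Y]
include h

/-- **(+) finishes**: `V = O₄⁻(2)`, `Y` induces at least `A₅` on the five vectors of `Om`. -/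
theorem main (h2 : ∀ b ∈ B, b * b = 1) : ∃ w : Fin 5 → V, Function.Injective w ∧ w 0 = z ∧ Set.range w = Om Y z ∧
    w 0 * w 1 * w 2 * w 3 * w 4 = 1 ∧ closure (Set.range w) = ⊤ ∧
    (∀ g : Y, ∃ σ : Equiv.Perm (Fin 5), ∀ i, g • w i = w (σ i)) ∧
    ∀ σ ∈ alternatingGroup (Fin 5), ∃ g : Y, ∀ i, g • w i = w (σ i) := by
  classical
  obtain ⟨w, hinj, hw0, hrange, hprod, hgen, hfree, hfix, htr⟩ := h.exists_five
  have hperm : ∀ g : Y, ∃ σ : Equiv.Perm (Fin 5), ∀ i, g • w i = w (σ i) := by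
    intro g
    have h1 : ∀ i, ∃ j, g • w i = w j := by
      intro i
      have h3 : g • w i ∈ Set.range w := by
        rw [hrange]
        exact smul_mem_Om g (hrange ▸ ⟨i, rfl⟩)
      obtain ⟨j, hj⟩ := h3
      exact ⟨j, hj.symm⟩
    choose f hf using h1
    have hfi : Function.Injective f := by
      intro i j hij
      apply hinj
      apply MulAction.injective g
      change g • w i = g • w j
      rw [hf, hf, hij]
    exact ⟨Equiv.ofBijective f (Finite.injective_iff_bijective.1 hfi), hf⟩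
  refine ⟨w, hinj, hw0, hrange, hprod, hgen, hperm, ?_⟩
  choose p hp using hperm
  have hpm : ∀ g g' : Y, p (g * g') = p g * p g' := by
    intro g g'
    ext i
    congr 1
    apply hinj
    rw [← hp, mul_smul, hp g', hp g, Equiv.Perm.mul_apply]
  let ψ : Y →* Equiv.Perm (Fin 5) := MonoidHom.mk' p hpm
  have hle : alternatingGroup (Fin 5) ≤ ψ.range := by
    refine alt_le ?_ ?_
    · intro i
      have h1 : w i ∈ Om Y z := hrange ▸ ⟨i, rfl⟩
      obtain ⟨g, hg⟩ := h1
      refine ⟨ψ g, ⟨g, rfl⟩, hinj ?_⟩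
      change w (p g 0) = w i
      rw [← hp, hw0]
      exact hg
    · -- the images of the elements `≠ 1` of `B`
      have hB : ∀ b ∈ B, b ≠ 1 → Good (p b) := by
        intro b hb hb1
        refine ⟨?_, ?_, fun i hi h3 => ?_⟩
        · rw [← hpm, h2 b hb]
          ext i
          congr 1
          apply hinj
          rw [← hp, one_smul, Equiv.Perm.one_apply]
        · apply hinj
          rw [← hp, hfix b hb]
        · rcases hfree b hb i (by rw [hp, h3]) with h4 | h4
          · exact hb1 h4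
          · exact hi h4
      haveI := Fintype.ofFinite B
      have hcB : Fintype.card B = 4 := by rw [← Nat.card_eq_fintype_card]; exact h.card_B
      let S : Finset (Equiv.Perm (Fin 5)) := (Finset.univ.erase (1 : B)).image fun b : B => p (b : Y)
      have hS : S.card = 3 := by
        rw [Finset.card_image_of_injOn, Finset.card_erase_of_mem (Finset.mem_univ _), Finset.card_univ, hcB]
        intro b _ b' _ hbb
        have hbb' : p (b : Y) = p (b' : Y) := hbb
        have h3 : (b'⁻¹ * b : B) = 1 := by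
          have h4 : ((b' : Y)⁻¹ * (b : Y)) • w 1 = w 1 := by
            rw [mul_smul, hp (b : Y), hbb', ← hp (b' : Y), inv_smul_smul]
          rcases hfree _ (mul_mem (inv_mem b'.2) b.2) 1 h4 with h5 | h5
          · exact Subtype.ext h5
          · exact absurd h5 (by decide)
        exact (inv_mul_eq_one.1 h3).symm
      have hSG : S ⊆ Finset.univ.filter Good := by
        intro τ hτ
        obtain ⟨b, hb, rfl⟩ := Finset.mem_image.1 hτ
        rw [Finset.mem_filter]
        refine ⟨Finset.mem_univ _, hB b b.2 fun h3 => ?_⟩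
        exact (Finset.mem_erase.1 hb).1 (Subtype.ext h3)
      have hSeq : S = Finset.univ.filter Good := Finset.eq_of_subset_of_card_le hSG (by rw [card_good, hS])
      intro τ hτ
      have h3 : τ ∈ S := by rw [hSeq, Finset.mem_filter]; exact ⟨Finset.mem_univ _, hτ⟩
      obtain ⟨b, -, rfl⟩ := Finset.mem_image.1 h3
      exact ⟨b, rfl⟩
  intro σ hσ
  obtain ⟨g, hg⟩ := hle hσ
  refine ⟨g, fun i => ?_⟩
  rw [hp, ← hg]
  rfl

end Hyp

end Cfsg.Agent.Omega.NearFF.Plus

end

section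


/-!
# (BT), `|V/E| = 2`: (+) finishes, on the structure `NearFF.Dat` (helper575 #13987 (1)-(3))

(+) : `∀ g, f z (g • z) = 0 → g ∈ M`.

* `mem_of` : (1);
* `four_le` : `|B| ≥ 4`;
* `core` : `C_V(⟨B^Y⟩) = 0`;
* `hyp` : the structure `Plus.Hyp`;
* `five` : `|Ω| = 5`; `five'` : the five vectors; `card_V` : `|V| = 16` (from `NearFF.Dat` and (+)).
-/

set_option autoImplicit false

namespace Cfsg.Agent.Omega.NearFF.PlusFam

open Subgroup MulAction Cfsg.Agent.Omega.Transv Cfsg.Agent.Omega.NearFF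

variable {Y V : Type*} [Group Y] [AddCommGroup V] [Module (ZMod 2) V] [DistribMulAction Y V]

/-- `C_V(B)` -/
def fixV (V : Type*) [AddCommGroup V] [DistribMulAction Y V] (B : Subgroup Y) : AddSubgroup V where
  carrier := {v | ∀ b ∈ B, b • v = v}
  zero_mem' := fun b _ => smul_zero b
  add_mem' := fun {v w} hv hw b hb => by rw [smul_add, hv b hb, hw b hb]
  neg_mem' := fun {v} hv b hb => by rw [smul_neg, hv b hb]

/-- The part of `Dat` that does not speak of `B`. -/
structure Base (T : Sylow 2 Y) (M : Subgroup Y) (z : V) : Prop where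
  two : ∀ v : V, v + v = 0
  TM : (T : Subgroup Y) ≤ M
  Mne : M ≠ ⊤
  max : ∀ K : Subgroup Y, (T : Subgroup Y) ≤ K → K ≠ ⊤ → K ≤ M
  zfix : ∀ t ∈ T, t • z = z
  fix : ∀ v : V, (∀ t ∈ T, t • v = v) → v = 0 ∨ v = z
  zmv : ∃ y : Y, y • z ≠ z
  span : AddSubgroup.closure (orbit Y z) = ⊤

/-- The part of `Dat` used here, for one `B ∈ BB z`. -/
structure Fam (T : Sylow 2 Y) (M : Subgroup Y) (z : V) (f : V → Du V) (B : Subgroup Y) : Prop
    extends Base T M z where
  f_smul : ∀ (y : Y) (x v : V), x ∈ orbit Y z → f (y • x) (y • v) = f x v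
  f_z : f z z = 0
  f_ne : ∃ v, f z v = 1
  B_fix : ∀ b ∈ B, b • z = z
  comm : ∀ a ∈ B, ∀ b ∈ B, a * b = b * a
  sq : ∀ a ∈ B, a * a = 1
  free : ∀ b ∈ B, b ≠ 1 → ∀ v, b • v = v → f z v = 0
  card : Nat.card V = 2 * Nat.card B * Nat.card (fixV V B)
  surj : ∀ v, f z v = 1 → ∀ e, f z e = 0 → ∃ b ∈ B, b • v + v + e ∈ fixV V B

variable {T : Sylow 2 Y} {M : Subgroup Y} {z : V} {f : V → Du V} {B : Subgroup Y} {Q : V → Subgroup Y}
  {BB : V → Set (Subgroup Y)}

/-- `|V| = 2 |B| |C_V(B)|` -/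
theorem card_of [Finite Y] [Finite V] {φ : Du V} (hφ : φ ≠ 0) (h : NB φ B) :
    Nat.card V = 2 * Nat.card B * Nat.card (fixV V B) := by
  obtain ⟨v, hv⟩ := exists_one hφ
  have hfree : ∀ b ∈ B, b ≠ 1 → ∀ u, b • u = u → φ u = 0 := by
    intro b hb hb1 u hu
    by_contra hc
    refine hb1 (h.inj u (eq_one_of_ne hc) b hb ?_)
    intro c _
    unfold cm
    rw [hu, Transv.add_self, smul_zero]
  obtain ⟨b₀, hb₀, hb₀1⟩ : ∃ b ∈ B, b ≠ 1 := by
    by_contra hcon
    push Not at hcon
    exact h.ne ((eq_bot_iff_forall _).2 hcon)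
  have hCE : ∀ c : fixV V B, φ (c : V) = 0 := fun c => hfree b₀ hb₀ hb₀1 c (c.2 b₀ hb₀)
  have hcmE : ∀ b ∈ B, φ (cm b v) = 0 := by
    intro b hb
    unfold cm
    rw [map_add, h.inv b hb, hv, one_add_one]
  have hE2 : ∀ b ∈ B, ∀ c ∈ B, cm (b * c) v = b • cm c v + cm b v := by
    intro b _ c _
    unfold cm
    rw [mul_smul, smul_add]
    have : b • v + b • v = 0 := Transv.add_self _
    calc b • c • v + v = b • c • v + (b • v + b • v) + v := by rw [this, add_zero]
      _ = _ := by abel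
  let F : Bool × B × fixV V B → V := fun p => (if p.1 then v else 0) + (cm (p.2.1 : Y) v + (p.2.2 : V))
  have hφF : ∀ p, φ (F p) = if p.1 then 1 else 0 := by
    rintro ⟨p1, b, c⟩
    change φ ((if p1 then v else 0) + (cm (b : Y) v + (c : V))) = _
    rw [map_add, map_add, hcmE b b.2, hCE c, add_zero, add_zero]
    cases p1 <;> simp [hv]
  have hinj : Function.Injective F := by
    rintro ⟨p1, b, c⟩ ⟨q1, b', c'⟩ hF
    have h1 : p1 = q1 := by
      have h2 : (if q1 then (1 : ZMod 2) else 0) = if p1 then 1 else 0 :=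
        (hφF (q1, b', c')).symm.trans ((congrArg φ hF.symm).trans (hφF (p1, b, c)))
      clear hF
      revert h2
      cases p1 <;> cases q1 <;> decide
    subst h1
    have h2 : cm (b : Y) v + (c : V) = cm (b' : Y) v + (c' : V) := add_left_cancel hF
    have h3 : cm (b : Y) v + cm (b' : Y) v = (c : V) + (c' : V) := by
      calc cm (b : Y) v + cm (b' : Y) v = cm (b : Y) v + (c : V) + cm (b' : Y) v + (c : V) := by
            rw [show cm (b : Y) v + (c : V) + cm (b' : Y) v + (c : V) = cm (b : Y) v + cm (b' : Y) v +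
              ((c : V) + (c : V)) by abel, Transv.add_self, add_zero]
        _ = cm (b' : Y) v + (c' : V) + cm (b' : Y) v + (c : V) := by rw [h2]
        _ = (c : V) + (c' : V) + (cm (b' : Y) v + cm (b' : Y) v) := by abel
        _ = _ := by rw [Transv.add_self, add_zero]
    have h4 : Fx B (cm ((b : Y) * b') v) := by
      rw [hE2 b b.2 b' b'.2]
      have h5 : Fx B (cm (b : Y) (cm (b' : Y) v)) := h.ed _ (hcmE b' b'.2) b b.2
      have h6 : (b : Y) • cm (b' : Y) v + cm (b : Y) v = cm (b : Y) (cm (b' : Y) v) + ((c : V) + (c' : V)) := by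
        rw [← h3]
        change _ = (b : Y) • cm (b' : Y) v + cm (b' : Y) v + _
        rw [show (b : Y) • cm (b' : Y) v + cm (b' : Y) v + (cm (b : Y) v + cm (b' : Y) v) =
          (b : Y) • cm (b' : Y) v + cm (b : Y) v + (cm (b' : Y) v + cm (b' : Y) v) by abel, Transv.add_self,
          add_zero]
      rw [h6]
      intro d hd
      rw [smul_add, h5 d hd, smul_add, c.2 d hd, c'.2 d hd]
    have h7 := h.inj v hv _ (B.mul_mem b.2 b'.2) h4
    have h8 : (b : Y) = b' := by
      have h9 := h.sq b' b'.2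
      calc (b : Y) = b * (b' * b') := by rw [h9, mul_one]
        _ = b * b' * b' := by group
        _ = b' := by rw [h7, one_mul]
    have h9 : b = b' := Subtype.ext h8
    subst h9
    have h10 : (c : V) = c' := add_left_cancel h2
    rw [Subtype.ext h10]
  have hE : ∀ e : V, φ e = 0 → ∃ b : B, ∃ c : fixV V B, cm (b : Y) v + (c : V) = e := by
    intro e he
    obtain ⟨b, hb, hfx⟩ := h.surj v e hv he
    refine ⟨⟨b, hb⟩, ⟨cm b v + e, hfx⟩, ?_⟩
    change cm b v + (cm b v + e) = e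
    rw [← add_assoc, Transv.add_self, zero_add]
  have hsurj : Function.Surjective F := by
    intro u
    rcases zmod_cases (φ u) with hu | hu
    · obtain ⟨b, c, hbc⟩ := hE u hu
      refine ⟨(false, b, c), ?_⟩
      change (if false then v else 0) + (cm (b : Y) v + (c : V)) = u
      rw [hbc]
      simp
    · obtain ⟨b, c, hbc⟩ := hE (u + v) (by rw [map_add, hu, hv, one_add_one])
      refine ⟨(true, b, c), ?_⟩
      change (if true then v else 0) + (cm (b : Y) v + (c : V)) = u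
      rw [hbc, if_pos rfl, add_comm u v, ← add_assoc, Transv.add_self, zero_add]
  have h1 := Nat.card_congr (Equiv.ofBijective F ⟨hinj, hsurj⟩)
  rw [← h1, Nat.card_prod, Nat.card_prod, Nat.card_eq_fintype_card (α := Bool), Fintype.card_bool, mul_assoc]

theorem zmv_of (h : Dat T M z f Q BB) : ∃ y : Y, y • z ≠ z := by
  by_contra hcon
  push Not at hcon
  apply h.f_ne
  ext v
  have h1 : v ∈ Submodule.span (ZMod 2) (Set.range fun g : Y => g • z) := h.span ▸ Submodule.mem_top
  refine Submodule.span_induction (p := fun w _ => f z w = (0 : Du V) w) ?_ ?_ ?_ ?_ h1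
  · rintro w ⟨g, rfl⟩
    change f z (g • z) = 0
    rw [hcon g, h.f_self]
  · rw [map_zero, map_zero]
  · intro u w _ _ hu hw
    rw [map_add, map_add, hu, hw]
  · intro c u _ hu
    rw [map_smul, map_smul, hu]

theorem base_of (h : Dat T M z f Q BB) : Base T M z where
  two := Transv.add_self
  TM := h.le
  Mne := h.ne
  max := fun K hK hne => (h.max K hK).resolve_right hne
  zfix := h.z_fix
  fix := h.fixT
  zmv := zmv_of h
  span := by
    rw [eq_top_iff]
    intro v _
    have h1 : v ∈ Submodule.span (ZMod 2) (Set.range fun g : Y => g • z) := h.span ▸ Submodule.mem_top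
    refine Submodule.span_induction (p := fun w _ => w ∈ AddSubgroup.closure (orbit Y z)) ?_ ?_ ?_ ?_ h1
    · rintro w ⟨g, rfl⟩
      exact AddSubgroup.subset_closure ⟨g, rfl⟩
    · exact zero_mem _
    · intro u w _ _ hu hw
      exact add_mem hu hw
    · intro c u _ hu
      rcases zmod_cases c with h2 | h2
      · rw [h2, zero_smul]; exact zero_mem _
      · rw [h2, one_smul]; exact hu

theorem fam_of [Finite Y] [Finite V] (h : Dat T M z f Q BB) (hB : B ∈ BB z) : Fam T M z f B where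
  toBase := base_of h
  f_smul := by
    intro y x v hx
    rw [h.f_smul y x hx, dua_apply, inv_smul_smul]
  f_z := h.f_self
  f_ne := exists_one h.f_ne
  B_fix := fun b hb => h.q_fix b (h.bb_le B hB hb)
  comm := (h.bb B hB).comm
  sq := (h.bb B hB).sq
  free := by
    intro b hb hb1 u hu
    by_contra hc
    refine hb1 ((h.bb B hB).inj u (eq_one_of_ne hc) b hb ?_)
    intro c _
    unfold cm
    rw [hu, Transv.add_self, smul_zero]
  card := card_of h.f_ne (h.bb B hB)
  surj := fun v hv e he => (h.bb B hB).surj v e hv he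

theorem zfix_le [Finite Y] (h : Base T M z) {g : Y} (hg : g • z = z) : g ∈ M := by
  obtain ⟨y, hy⟩ := h.zmv
  refine h.max (stabilizer Y z) (fun t ht => ?_) (fun h1 => hy ?_) hg
  · exact h.zfix t ht
  · have : y ∈ stabilizer Y z := h1 ▸ mem_top y
    exact this

/-- a 2-element of `M` fixes `m • z`, `m ∈ M` -/
theorem exists_fix [Finite Y] (h : Base T M z) {a : Y} {n : ℕ} (ha : a ^ 2 ^ n = 1) (haM : a ∈ M) :
    ∃ m ∈ M, a • m • z = m • z := by
  have hp : IsPGroup 2 (zpowers a) := by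
    rintro ⟨x, k, rfl⟩
    refine ⟨n, Subtype.ext ?_⟩
    change (a ^ k) ^ 2 ^ n = 1
    rw [← zpow_natCast, ← zpow_mul, mul_comm, zpow_mul, zpow_natCast, ha, one_zpow]
  have h1 : IsPGroup 2 ((zpowers a).subgroupOf M) := hp.of_equiv (Subgroup.subgroupOfEquivOfLe (zpowers_le.2 haM)).symm
  obtain ⟨R, hR⟩ := h1.exists_le_sylow
  obtain ⟨m, hm⟩ := MulAction.exists_smul_eq M (T.subtype h.TM) R
  refine ⟨m, m.2, ?_⟩
  have h2 : (⟨a, haM⟩ : M) ∈ (R : Subgroup M) := hR (by rw [mem_subgroupOf]; exact mem_zpowers a)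
  rw [← hm, Sylow.coe_subgroup_smul, mem_pointwise_smul_iff_inv_smul_mem] at h2
  have h3 : (m : Y)⁻¹ * a * m ∈ (T : Subgroup Y) := by
    rw [← map_inv, MulAut.smul_def, MulAut.conj_apply, inv_inv] at h2
    exact h2
  have h4 := h.zfix _ h3
  rw [mul_smul, mul_smul, inv_smul_eq_iff] at h4
  exact h4

/-- (1) -/
theorem mem_of [Finite Y] (h : Fam T M z f B) (plus : ∀ g : Y, f z (g • z) = 0 → g ∈ M) {a : Y} (ha : a ∈ B) (ha1 : a ≠ 1) {g : Y} (hg : g⁻¹ * a * g ∈ M) : g ∈ M := by
  obtain ⟨m, hm, h1⟩ := exists_fix h.toBase (a := g⁻¹ * a * g) (n := 1) (by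
    rw [pow_one, pow_two]
    calc g⁻¹ * a * g * (g⁻¹ * a * g) = g⁻¹ * (a * a) * g := by group
      _ = 1 := by rw [h.sq a ha]; group) hg
  have h2 : a • (g * m) • z = (g * m) • z := by
    rw [mul_smul, mul_smul, inv_smul_eq_iff] at h1
    rw [mul_smul]
    exact h1
  have h3 := plus _ (h.free a ha ha1 _ h2)
  have := M.mul_mem h3 (M.inv_mem hm)
  rwa [mul_inv_cancel_right] at this

theorem two_smul_eq (h : Base T M z) (v : V) : -v = v := neg_eq_of_add_eq_zero_left (h.two v)

/-- `|B| ≥ 4` -/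
theorem four_le [Finite Y] [Finite V] (h : Fam T M z f B) : 4 ≤ Nat.card B := by
  have hcard := h.card
  have hC : 0 < Nat.card (fixV V B) := Nat.card_pos
  obtain ⟨v, hv⟩ := h.f_ne
  -- `|B|` is a power of 2
  have hp : IsPGroup 2 B := fun b => ⟨1, Subtype.ext (by simpa [pow_two] using h.sq b b.2)⟩
  obtain ⟨n, hn⟩ := IsPGroup.iff_card.1 hp
  -- `V = E ∪ (v + E)`
  have hVE : ∀ u : V, f z u = 0 ∨ f z (u + v) = 0 := by
    intro u
    rw [map_add, hv]
    generalize f z u = c
    revert c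
    decide
  rcases n with _ | _ | n
  · exfalso
    rw [pow_zero] at hn
    have hB1 : B = ⊥ := Subgroup.card_eq_one.1 hn
    have h1 : fixV V B = ⊤ := by
      rw [eq_top_iff]
      intro u _ b hb
      rw [hB1, mem_bot] at hb
      rw [hb, one_smul]
    rw [hn, h1, AddSubgroup.card_top] at hcard
    have : 0 < Nat.card V := Nat.card_pos
    omega
  · exfalso
    rw [zero_add, pow_one] at hn
    have hCB : ∀ e, f z e = 0 → e ∈ fixV V B := by
      intro e he
      obtain ⟨b, hb, h1⟩ := h.surj v hv e he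
      have h2 : b • v + v ∈ fixV V B := by
        intro c hc
        have h3 : c = 1 ∨ c = b ∨ b = 1 := by
          classical
          by_contra hcon
          push Not at hcon
          obtain ⟨h4, h5, h6⟩ := hcon
          haveI := Fintype.ofFinite B
          rw [Nat.card_eq_fintype_card] at hn
          have h7 : ({1, ⟨b, hb⟩, ⟨c, hc⟩} : Finset B).card = 3 := by
            rw [Finset.card_insert_of_notMem, Finset.card_pair]
            · intro h8; exact h5 (congrArg Subtype.val h8).symm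
            · simp only [Finset.mem_insert, Finset.mem_singleton, not_or]
              exact ⟨fun h8 => h6 (congrArg Subtype.val h8).symm, fun h8 => h4 (congrArg Subtype.val h8).symm⟩
          have h8 := Finset.card_le_univ ({1, ⟨b, hb⟩, ⟨c, hc⟩} : Finset B)
          omega
        rcases h3 with rfl | rfl | rfl
        · rw [one_smul]
        · rw [smul_add, ← mul_smul, h.sq _ hb, one_smul, add_comm]
        · rw [one_smul, h.two, smul_zero]
      have h3 := (fixV V B).add_mem ((fixV V B).neg_mem h2) h1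
      rwa [neg_add_cancel_left] at h3
    have h1 : Nat.card V ≤ 2 * Nat.card (fixV V B) := by
      have h2 : Nat.card V ≤ Nat.card (Bool × fixV V B) := by
        classical
        refine Nat.card_le_card_of_injective (fun u : V =>
          if hu : f z u = 0 then ((true, ⟨u, hCB u hu⟩) : Bool × fixV V B)
          else (false, ⟨u + v, hCB _ ((hVE u).resolve_left hu)⟩)) ?_
        intro u u' huu
        by_cases hu : f z u = 0
        · by_cases hu' : f z u' = 0
          · simp only [dif_pos hu, dif_pos hu', Prod.mk.injEq, Subtype.mk.injEq, true_and] at huu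
            exact huu
          · simp only [dif_pos hu, dif_neg hu', Prod.mk.injEq] at huu
            exact absurd huu.1 (by decide)
        · by_cases hu' : f z u' = 0
          · simp only [dif_neg hu, dif_pos hu', Prod.mk.injEq] at huu
            exact absurd huu.1 (by decide)
          · simp only [dif_neg hu, dif_neg hu', Prod.mk.injEq, Subtype.mk.injEq, true_and] at huu
            exact add_right_cancel huu
      rwa [Nat.card_prod, Nat.card_eq_fintype_card (α := Bool), Fintype.card_bool] at h2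
    rw [hn] at hcard
    omega
  · rw [hn, pow_succ, pow_succ]
    have : 0 < 2 ^ n := by positivity
    omega

/-- `C_V(⟨B^Y⟩) = 0` -/
theorem core [Finite Y] [Finite V] (h : Fam T M z f B) (plus : ∀ g : Y, f z (g • z) = 0 → g ∈ M) {v : V} (hv : ∀ g : Y, g • v ∈ fixV V B) : v = 0 := by
  have : Fact (Nat.Prime 2) := ⟨Nat.prime_two⟩
  set N := normalClosure (B : Set Y) with hN
  have hBN : B ≤ N := subset_normalClosure
  have hNT : N ⊔ T = ⊤ := by
    by_contra hne
    have h1 : N ≤ M := le_sup_left.trans (h.max _ le_sup_right hne)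
    -- `B ≠ 1`
    have h4 := four_le h
    obtain ⟨a, ha⟩ : ∃ a : B, a ≠ 1 := by
      by_contra hcon
      push Not at hcon
      have : Nat.card B ≤ 1 := by
        haveI : Subsingleton B := ⟨fun a b => by rw [hcon a, hcon b]⟩
        exact Finite.card_le_one_iff_subsingleton.2 inferInstance
      omega
    apply h.Mne
    rw [eq_top_iff]
    intro g _
    refine mem_of h plus a.2 (fun h2 => ha (Subtype.ext h2)) (h1 ?_)
    have h5 := (normalClosure_normal (s := (B : Set Y))).conj_mem a (hBN a.2) g⁻¹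
    rwa [inv_inv] at h5
  by_contra hv0
  -- `K = C_V(N)`
  let K : AddSubgroup V :=
    { carrier := {w | ∀ g : Y, g • w ∈ fixV V B}
      zero_mem' := fun g => by rw [smul_zero]; exact zero_mem _
      add_mem' := fun {u w} hu hw g => by rw [smul_add]; exact add_mem (hu g) (hw g)
      neg_mem' := fun {u} hu g => by rw [smul_neg]; exact neg_mem (hu g) }
  have hKT : ∀ t : Y, ∀ w ∈ K, t • w ∈ K := fun t w hw g => by
    rw [← mul_smul]; exact hw _
  letI : MulAction T K :=
    { smul := fun t w => ⟨(t : Y) • (w : V), hKT t w w.2⟩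
      one_smul := fun w => Subtype.ext (one_smul Y (w : V))
      mul_smul := fun t t' w => Subtype.ext (mul_smul (t : Y) (t' : Y) (w : V)) }
  have hmod := T.isPGroup'.card_modEq_card_fixedPoints K
  have h0 : (0 : K) ∈ fixedPoints T K := fun t => Subtype.ext (smul_zero (t : Y))
  -- `|K|` is even
  have heven : 2 ∣ Nat.card K := by
    have h1 : (⟨v, hv⟩ : K) ≠ 0 := fun h2 => hv0 (congrArg Subtype.val h2)
    have h2 : addOrderOf (⟨v, hv⟩ : K) = 2 := by
      refine addOrderOf_eq_prime ?_ h1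
      rw [two_nsmul]
      exact Subtype.ext (h.two v)
    rw [← h2]
    exact addOrderOf_dvd_natCard _
  have h2 : 2 ∣ Nat.card (fixedPoints T K) := (Nat.modEq_zero_iff_dvd).1
    (hmod.symm.trans ((Nat.modEq_zero_iff_dvd).2 heven))
  obtain ⟨w, hw⟩ : ∃ w : fixedPoints T K, (w : K) ≠ 0 := by
    by_contra hcon
    push Not at hcon
    have h3 : Nat.card (fixedPoints T K) ≤ 1 := by
      haveI : Subsingleton (fixedPoints T K) := ⟨fun a b => Subtype.ext (by rw [hcon a, hcon b])⟩
      exact Finite.card_le_one_iff_subsingleton.2 inferInstance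
    have h4 : 0 < Nat.card (fixedPoints T K) := by
      haveI : Nonempty (fixedPoints T K) := ⟨⟨0, h0⟩⟩
      exact Nat.card_pos
    have := Nat.le_of_dvd h4 h2
    omega
  have hwT : ∀ t ∈ T, t • ((w : K) : V) = ((w : K) : V) := fun t ht =>
    congrArg Subtype.val (w.2 ⟨t, ht⟩)
  have hwz : ((w : K) : V) = z := (h.fix _ hwT).resolve_left fun h3 => hw (Subtype.ext h3)
  have hzK : z ∈ K := hwz ▸ (w : K).2
  obtain ⟨y, hy⟩ := h.zmv
  apply hy
  have h3 : N ≤ stabilizer Y z := by
    refine (closure_le _).2 ?_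
    intro κ hκ
    rw [Group.mem_conjugatesOfSet_iff] at hκ
    obtain ⟨a, ha, hc⟩ := hκ
    obtain ⟨g, rfl⟩ := isConj_iff.1 hc
    have h4 := hzK g⁻¹ a ha
    change (g * a * g⁻¹) • z = z
    rw [mul_smul, mul_smul, h4, smul_inv_smul]
  have h4 : N ⊔ T ≤ stabilizer Y z := sup_le h3 fun t ht => h.zfix t ht
  rw [hNT] at h4
  exact h4 (mem_top y)

/-! ### The structure `Plus.Hyp` -/

/-- the action on `Multiplicative V` -/
@[reducible] def act : MulDistribMulAction Y (Multiplicative V) where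
  smul g v := Multiplicative.ofAdd (g • v.toAdd)
  one_smul v := one_smul Y v.toAdd
  mul_smul g h v := mul_smul g h v.toAdd
  smul_mul g u v := smul_add g u.toAdd v.toAdd
  smul_one g := smul_zero (A := V) g

attribute [local instance] act

theorem sq_mul (h : Base T M z) (v : Multiplicative V) : v * v = 1 := h.two v.toAdd

/-- `E_x` -/
def EE (f : V → Du V) (x : Multiplicative V) : Subgroup (Multiplicative V) where
  carrier := {v | f x.toAdd v.toAdd = 0}
  one_mem' := map_zero _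
  mul_mem' := fun {u v} hu hv => by
    change f x.toAdd (u.toAdd + v.toAdd) = 0
    have hu' : f x.toAdd u.toAdd = 0 := hu
    have hv' : f x.toAdd v.toAdd = 0 := hv
    rw [map_add, hu', hv', add_zero]
  inv_mem' := fun {u} hu => by
    change f x.toAdd (-u.toAdd) = 0
    have hu' : f x.toAdd u.toAdd = 0 := hu
    rw [map_neg, hu', neg_zero]

theorem mem_EE {x v : Multiplicative V} : v ∈ EE f x ↔ f x.toAdd v.toAdd = 0 := Iff.rfl

/-- `M_x = M_y` -/
def rr (M : Subgroup Y) (z : V) (x y : Multiplicative V) : Prop :=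
  ∃ a c : Y, x.toAdd = a • z ∧ y.toAdd = c • z ∧ a⁻¹ * c ∈ M

theorem rr_iff [Finite Y] (h : Base T M z) {a c : Y} :
    rr M z (Multiplicative.ofAdd (a • z)) (Multiplicative.ofAdd (c • z)) ↔ a⁻¹ * c ∈ M := by
  constructor
  · rintro ⟨a', c', h1, h2, h3⟩
    have h1' : a • z = a' • z := h1
    have h2' : c • z = c' • z := h2
    have h4 : a⁻¹ * a' ∈ M := zfix_le h (by rw [mul_smul, ← h1', inv_smul_smul])
    have h5 : c'⁻¹ * c ∈ M := zfix_le h (by rw [mul_smul, h2', inv_smul_smul])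
    have h6 := M.mul_mem (M.mul_mem h4 h3) h5
    have e : a⁻¹ * a' * (a'⁻¹ * c') * (c'⁻¹ * c) = a⁻¹ * c := by group
    rwa [e] at h6
  · intro h3
    exact ⟨a, c, rfl, rfl, h3⟩

theorem card_mul (W : AddSubgroup V) : Nat.card W = Nat.card (AddSubgroup.toSubgroup W) := rfl

/-- `Plus.Hyp` from `Fam` and (+) -/
theorem hyp [Finite Y] [Finite V] (h : Fam T M z f B) (plus : ∀ g : Y, f z (g • z) = 0 → g ∈ M) :
    Plus.Hyp (Y := Y) (V := Multiplicative V) (Multiplicative.ofAdd z) (EE f) (rr M z) B where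
  sq := sq_mul h.toBase
  gen := by
    have h1 := h.span
    rw [eq_top_iff]
    intro v _
    have hv : v.toAdd ∈ AddSubgroup.closure (orbit Y z) := h1 ▸ AddSubgroup.mem_top _
    refine AddSubgroup.closure_induction (p := fun w _ => Multiplicative.ofAdd w ∈
      Subgroup.closure (Plus.Om Y (Multiplicative.ofAdd z))) ?_ ?_ ?_ ?_ hv
    · rintro w ⟨g, rfl⟩
      exact subset_closure ⟨g, rfl⟩
    · exact one_mem _
    · intro u w _ _ hu hw
      exact mul_mem hu hw
    · intro u _ hu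
      exact inv_mem hu
  E_smul := by
    rintro g x ⟨a, rfl⟩ v
    exact ⟨fun h1 => (h.f_smul g (a • z) v.toAdd ⟨a, rfl⟩).symm.trans h1,
      fun h1 => (h.f_smul g (a • z) v.toAdd ⟨a, rfl⟩).trans h1⟩
  E_self := by
    rintro x ⟨a, rfl⟩
    exact (h.f_smul a z z (mem_orbit_self z)).trans h.f_z
  E_two := by
    intro x _ u v hu hv
    have hu' : f x.toAdd u.toAdd ≠ 0 := hu
    have hv' : f x.toAdd v.toAdd ≠ 0 := hv
    change f x.toAdd (u.toAdd + v.toAdd) = 0
    rw [map_add]
    revert hu' hv'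
    generalize f x.toAdd u.toAdd = c
    generalize f x.toAdd v.toAdd = d
    revert c d
    decide
  refl := by
    rintro x ⟨a, rfl⟩
    exact (rr_iff h.toBase).2 (by rw [inv_mul_cancel]; exact one_mem _)
  symm := by
    rintro x ⟨a, rfl⟩ y ⟨c, rfl⟩ h1
    have h2 := M.inv_mem ((rr_iff h.toBase).1 h1)
    rw [mul_inv_rev, inv_inv] at h2
    exact (rr_iff h.toBase).2 h2
  trans := by
    rintro x ⟨a, rfl⟩ y ⟨c, rfl⟩ w ⟨d, rfl⟩ h1 h2
    have h3 := M.mul_mem ((rr_iff h.toBase).1 h1) ((rr_iff h.toBase).1 h2)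
    have e : a⁻¹ * c * (c⁻¹ * d) = a⁻¹ * d := by group
    rw [e] at h3
    exact (rr_iff h.toBase).2 h3
  inv := by
    rintro g x ⟨a, rfl⟩ y ⟨c, rfl⟩ h1
    have h3 := (rr_iff h.toBase).1 h1
    refine ⟨g * a, g * c, (mul_smul g a z).symm, (mul_smul g c z).symm, ?_⟩
    rwa [mul_inv_rev, mul_assoc, inv_mul_cancel_left]
  ne := by
    by_contra hcon
    push Not at hcon
    apply h.Mne
    rw [eq_top_iff]
    intro g _
    have h1 := hcon (Multiplicative.ofAdd (g • z)) ⟨g, rfl⟩
    have h2 : rr M z (Multiplicative.ofAdd ((1 : Y) • z)) (Multiplicative.ofAdd (g • z)) := by rwa [one_smul]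
    have h3 := (rr_iff h.toBase).1 h2
    rwa [inv_one, one_mul] at h3
  fix_z := fun b hb => h.B_fix b hb
  four := four_le h
  free := fun a ha ha1 v hv => h.free a ha ha1 v.toAdd hv
  fixed := by
    rintro a ha x ⟨g, rfl⟩ h1
    have h2 : rr M z (Multiplicative.ofAdd ((a * g) • z)) (Multiplicative.ofAdd (g • z)) := by
      rw [mul_smul]; exact h1
    have h3 := (rr_iff h.toBase).1 h2
    have h4 : g⁻¹ * a * g ∈ M := by
      have h5 := M.inv_mem h3
      have e : ((a * g)⁻¹ * g)⁻¹ = g⁻¹ * a * g := by group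
      rwa [e] at h5
    obtain ⟨m, hm, h5⟩ := exists_fix h.toBase (a := g⁻¹ * a * g) (n := 1) (by
      rw [pow_one, pow_two]
      calc g⁻¹ * a * g * (g⁻¹ * a * g) = g⁻¹ * (a * a) * g := by group
        _ = 1 := by rw [h.sq a ha]; group) h4
    refine ⟨Multiplicative.ofAdd ((g * m) • z), ⟨g * m, rfl⟩, (rr_iff h.toBase).2 ?_, ?_⟩
    · have e : (g * m)⁻¹ * g = m⁻¹ := by group
      rw [e]; exact inv_mem hm
    · change a • (g * m) • z = (g * m) • z
      rw [mul_smul, mul_smul, inv_smul_eq_iff] at h5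
      rw [mul_smul]
      exact h5
  idx := by
    have h1 := (Plus.fx (V := Multiplicative V) B).card_mul_index
    have h2 : Nat.card (Plus.fx (V := Multiplicative V) B) = Nat.card (fixV V B) := rfl
    have h3 : Nat.card (Multiplicative V) = Nat.card V := rfl
    have h4 := h.card
    have h5 : 0 < Nat.card (fixV V B) := Nat.card_pos
    rw [h2, h3, h4] at h1
    have h6 : Nat.card (fixV V B) * (Plus.fx (V := Multiplicative V) B).index =
        Nat.card (fixV V B) * (2 * Nat.card B) := by rw [h1]; ring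
    exact (Nat.eq_of_mul_eq_mul_left h5 h6).le
  core := fun v hv => core h plus (v := v.toAdd) hv
  plus := by
    rintro x ⟨a, rfl⟩ y ⟨c, rfl⟩ h1
    refine (rr_iff h.toBase).2 (plus _ ?_)
    have h2 : f (a • z) (c • z) = 0 := h1
    have h3 := h.f_smul a z ((a⁻¹ * c) • z) (mem_orbit_self z)
    rw [← mul_smul, mul_inv_cancel_left] at h3
    rw [← h3]; exact h2

/-- the five vectors -/
theorem five' [Finite Y] [Finite V] (h : Dat T M z f Q BB) (plus : ∀ g : Y, f z (g • z) = 0 → g ∈ M) :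
    ∃ w : Fin 5 → V, Function.Injective w ∧ w 0 = z ∧ Set.range w = orbit Y z ∧
      w 0 + w 1 + w 2 + w 3 + w 4 = 0 ∧
      (∀ g : Y, ∃ σ : Equiv.Perm (Fin 5), ∀ i, g • w i = w (σ i)) ∧
      ∀ σ ∈ alternatingGroup (Fin 5), ∃ g : Y, ∀ i, g • w i = w (σ i) := by
  obtain ⟨B, hB⟩ := h.bb_ne
  obtain ⟨w, h1, h2, h3, h4, -, h6, h7⟩ := (hyp (fam_of h hB) plus).main (h.bb B hB).sq
  exact ⟨w, h1, h2, h3, h4, h6, h7⟩

/-- **(+) ⟹ `|Ω| = 5`** -/
theorem five [Finite Y] [Finite V] (h : Dat T M z f Q BB) (plus : ∀ g : Y, f z (g • z) = 0 → g ∈ M) :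
    Nat.card (orbit Y z) = 5 := by
  obtain ⟨w, h1, -, h3, -⟩ := five' h plus
  rw [← h3, Nat.card_congr (Equiv.ofInjective w h1).symm, Nat.card_eq_fintype_card, Fintype.card_fin]

theorem card_V [Finite Y] [Finite V] (h : Dat T M z f Q BB) (plus : ∀ g : Y, f z (g • z) = 0 → g ∈ M) :
    Nat.card V = 16 := by
  obtain ⟨B, hB⟩ := h.bb_ne
  exact (hyp (fam_of h hB) plus).card_V

end Cfsg.Agent.Omega.NearFF.PlusFam

end

section


/-!
# Finite fields of characteristic 2 with an involutory automorphism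

`σ` an automorphism of order 2 of the finite field `F`, `char F = 2`, `F₀ = Fix σ`.

* `exists_tr`, `exists_norm` : trace and norm are onto `F₀`;
* `closed_eq_top` : an additive subgroup `≠ 0` of `F` invariant under the elements of norm one is `F`;
* `linear_of` : an additive map `φ` with `φ(l² u) = l² φ(u)` (`l` of norm one) is `u ↦ φ(1) u`;
* `alt_of` : an additive map `b` with `Tr(σ(u) b(u)) = 0` is `u ↦ c u`, `c ∈ F₀`.
-/

set_option autoImplicit false
set_option linter.unusedSectionVars false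

namespace Cfsg.Agent.Omega.NO1.HermField

variable {F : Type*} [Field F] [CharP F 2] {σ : F ≃+* F}

theorem add_self (x : F) : x + x = 0 := CharTwo.add_self_eq_zero x

theorem eq_of_add {x y : F} (h : x + y = 0) : x = y := by
  rw [CharTwo.add_eq_zero] at h
  exact h

theorem neg_eq (x : F) : -x = x := CharTwo.neg_eq x

section

variable (hσ : σ ≠ RingEquiv.refl F) (hσ2 : ∀ x, σ (σ x) = x)

include hσ in
theorem exists_moved : ∃ y : F, σ y ≠ y := by
  by_contra hcon
  push Not at hcon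
  exact hσ (RingEquiv.ext hcon)

include hσ2 in
theorem fix_tr (x : F) : σ (x + σ x) = x + σ x := by rw [map_add, hσ2, add_comm]

include hσ2 in
theorem fix_norm (x : F) : σ (x * σ x) = x * σ x := by rw [map_mul, hσ2, mul_comm]

theorem tr_eq_zero {x : F} : x + σ x = 0 ↔ σ x = x :=
  ⟨fun h => (eq_of_add h).symm, fun h => by rw [h, add_self]⟩

include hσ hσ2 in
/-- The trace is onto. -/
theorem exists_tr {c : F} (hc : σ c = c) : ∃ x : F, x + σ x = c := by
  obtain ⟨y, hy⟩ := exists_moved hσ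
  have h0 : y + σ y ≠ 0 := fun h => hy (tr_eq_zero.1 h)
  refine ⟨c / (y + σ y) * y, ?_⟩
  rw [map_mul, map_div₀, hc, fix_tr hσ2, ← mul_add, div_mul_cancel₀ _ h0]

/-- Every element is a square. -/
theorem exists_sq [Finite F] (c : F) : ∃ d : F, d * d = c := by
  obtain ⟨d, hd⟩ := FiniteField.isSquare_of_char_two (by
    have := ringChar.eq F 2
    exact this) c
  exact ⟨d, hd.symm⟩

theorem sq_inj {x y : F} (h : x * x = y * y) : x = y := by
  have h1 : (x + y) * (x + y) = 0 := by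
    have : (x + y) * (x + y) = x * x + y * y + (x * y + x * y) := by ring
    rw [this, h, add_self, add_self, add_zero]
  exact eq_of_add (mul_self_eq_zero.1 h1)

/-- The norm is onto, already on `F₀`. -/
theorem exists_norm [Finite F] {c : F} (hc : σ c = c) : ∃ x : F, σ x = x ∧ x * σ x = c := by
  obtain ⟨d, hd⟩ := exists_sq c
  have h1 : σ d = d := by
    apply sq_inj
    rw [← map_mul, hd, hc]
  exact ⟨d, h1, by rw [h1, hd]⟩

include hσ hσ2 in
/-- There is an element of norm one different from `1`. -/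
theorem exists_norm_one : ∃ l : F, l * σ l = 1 ∧ l ≠ 1 := by
  obtain ⟨y, hy⟩ := exists_moved hσ
  have h0 : y ≠ 0 := by rintro rfl; exact hy (map_zero σ)
  have h1 : σ y ≠ 0 := fun h => h0 ((map_eq_zero_iff σ σ.injective).1 h)
  refine ⟨y / σ y, ?_, ?_⟩
  · rw [map_div₀, hσ2]
    field_simp
  · intro h
    rw [div_eq_one_iff_eq h1] at h
    exact hy h.symm

/-- The square root of an element of norm one has norm one. -/
theorem sqrt_norm_one [Finite F] {l : F} (hl : l * σ l = 1) : ∃ m : F, m * σ m = 1 ∧ m * m = l := by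
  obtain ⟨m, hm⟩ := exists_sq l
  refine ⟨m, ?_, hm⟩
  apply sq_inj
  rw [mul_one, ← hl, ← hm, map_mul]
  ring

include hσ hσ2 in
/-- A subfield containing the elements of norm one is everything. -/
theorem subfield_eq_top (K : Subfield F) (hK : ∀ l : F, l * σ l = 1 → l ∈ K) : K = ⊤ := by
  obtain ⟨y, hy⟩ := exists_moved hσ
  have h0 : y + σ y ≠ 0 := fun h => hy (tr_eq_zero.1 h)
  -- `(σ y + a) / τ ∈ K` for `a ∈ F₀`
  have h1 : ∀ a : F, σ a = a → (σ y + a) / (y + σ y) ∈ K := by
    intro a ha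
    have hya : σ y + a ≠ 0 := by
      intro h
      have h2 := eq_of_add h
      apply hy
      rw [h2, ← ha, ← h2, hσ2]
    have hya' : y + a ≠ 0 := by
      intro h
      have h2 := eq_of_add h
      apply hy
      rw [h2, ha]
    have h3 : (y + a) / (σ y + a) ∈ K := by
      apply hK
      rw [map_div₀, map_add, map_add, hσ2, ha]
      field_simp
    have h4 : 1 + (y + a) / (σ y + a) = (y + σ y) / (σ y + a) := by
      have h5 : y + σ y = (σ y + a) + (y + a) := by
        have : (σ y + a) + (y + a) = y + σ y + (a + a) := by ring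
        rw [this, add_self, add_zero]
      rw [h5, add_div (σ y + a) (y + a), div_self hya]
    have h6 : (y + σ y) / (σ y + a) ∈ K := by rw [← h4]; exact add_mem K.one_mem h3
    have h7 := K.inv_mem h6
    rwa [inv_div] at h7
  have h2 : ∀ a : F, σ a = a → a / (y + σ y) ∈ K := by
    intro a ha
    have h3 := h1 a ha
    have h4 := h1 0 (map_zero σ)
    have h5 := add_mem h3 h4
    have h6 : (σ y + a) / (y + σ y) + (σ y + 0) / (y + σ y) = a / (y + σ y) := by
      rw [← add_div]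
      congr 1
      have : σ y + a + (σ y + 0) = a + (σ y + σ y) := by ring
      rw [this, add_self, add_zero]
    rwa [h6] at h5
  have h3 : y + σ y ∈ K := by
    have := K.inv_mem (h2 1 (map_one σ))
    rwa [inv_div, div_one] at this
  have h4 : ∀ a : F, σ a = a → a ∈ K := by
    intro a ha
    have := K.mul_mem (h2 a ha) h3
    rwa [div_mul_cancel₀ _ h0] at this
  have h5 : σ y ∈ K := by
    have := K.mul_mem (h1 0 (map_zero σ)) h3
    rwa [div_mul_cancel₀ _ h0, add_zero] at this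
  have h6 : y ∈ K := by
    have := add_mem h3 h5
    have h7 : y + σ y + σ y = y := by rw [add_assoc, add_self, add_zero]
    rwa [h7] at this
  rw [eq_top_iff]
  intro x _
  have h7 : σ ((x + σ x) / (y + σ y)) = (x + σ x) / (y + σ y) := by
    rw [map_div₀, fix_tr hσ2, fix_tr hσ2]
  have h8 : σ (x + (x + σ x) / (y + σ y) * y) = x + (x + σ x) / (y + σ y) * y := by
    apply tr_eq_zero.1
    rw [map_add, map_mul, h7]
    have : x + (x + σ x) / (y + σ y) * y + (σ x + (x + σ x) / (y + σ y) * σ y) =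
        (x + σ x) + (x + σ x) / (y + σ y) * (y + σ y) := by ring
    rw [this, div_mul_cancel₀ _ h0, add_self]
  have h9 : x = (x + (x + σ x) / (y + σ y) * y) + (x + σ x) / (y + σ y) * y := by
    rw [add_assoc, add_self, add_zero]
  rw [h9]
  exact add_mem (h4 _ h8) (K.mul_mem (h4 _ h7) h6)

include hσ hσ2 in
/-- An additive subgroup `≠ 0` invariant under the elements of norm one is everything. -/
theorem closed_eq_top [Finite F] (D : AddSubgroup F) (hD : ∀ l : F, l * σ l = 1 → ∀ d ∈ D, l * d ∈ D) {d0 : F}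
    (hd0 : d0 ∈ D) (h0 : d0 ≠ 0) : D = ⊤ := by
  let K : Subfield F :=
    { carrier := {k | ∀ d ∈ D, k * d ∈ D}
      mul_mem' := fun {a b} ha hb d hd => by rw [mul_assoc]; exact ha _ (hb _ hd)
      one_mem' := fun d hd => by rw [one_mul]; exact hd
      add_mem' := fun {a b} ha hb d hd => by rw [add_mul]; exact D.add_mem (ha _ hd) (hb _ hd)
      zero_mem' := fun d _ => by rw [zero_mul]; exact D.zero_mem
      neg_mem' := fun {a} ha d hd => by rw [neg_mul]; exact D.neg_mem (ha _ hd)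
      inv_mem' := fun a ha => by
        intro d hd
        by_cases h : a = 0
        · rw [h, inv_zero, zero_mul]; exact D.zero_mem
        let f : D → D := fun d => ⟨a * d, ha d d.2⟩
        have hf : Function.Injective f := fun x y hxy =>
          Subtype.ext (mul_left_cancel₀ h (congrArg Subtype.val hxy))
        obtain ⟨e, he⟩ := Finite.surjective_of_injective hf ⟨d, hd⟩
        have he' : a * e = d := congrArg Subtype.val he
        rw [← he', inv_mul_cancel_left₀ h]
        exact e.2 }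
  have hK := subfield_eq_top hσ hσ2 K hD
  rw [AddSubgroup.eq_top_iff']
  intro x
  have h1 : x / d0 ∈ K := by rw [hK]; exact Subfield.mem_top _
  have h2 := h1 d0 hd0
  rwa [div_mul_cancel₀ _ h0] at h2

include hσ hσ2 in
/-- The same with the squares of the elements of norm one. -/
theorem closed_eq_top' [Finite F] (D : AddSubgroup F) (hD : ∀ l : F, l * σ l = 1 → ∀ d ∈ D, l * l * d ∈ D)
    (hne : D ≠ ⊥) : D = ⊤ := by
  obtain ⟨⟨d, hd⟩, h0⟩ := AddSubgroup.ne_bot_iff_exists_ne_zero.1 hne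
  refine closed_eq_top hσ hσ2 D (fun l hl d hd => ?_) hd (fun h => h0 (Subtype.ext h))
  obtain ⟨m, hm, rfl⟩ := sqrt_norm_one hl
  exact hD m hm d hd

include hσ hσ2 in
/-- An additive map commuting with the norm one elements is linear. -/
theorem linear_of [Finite F] (φ : F → F) (hadd : ∀ x y, φ (x + y) = φ x + φ y)
    (hφ : ∀ l : F, l * σ l = 1 → ∀ u, φ (l * l * u) = l * l * φ u) (u : F) : φ u = u * φ 1 := by
  have h0 : φ 0 = 0 := by
    have := hadd 0 0
    rw [add_zero] at this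
    exact (left_eq_add).1 this
  let K : Subfield F :=
    { carrier := {k | ∀ u, φ (k * u) = k * φ u}
      mul_mem' := fun {a b} ha hb u => by rw [mul_assoc, ha, hb, mul_assoc]
      one_mem' := fun u => by rw [one_mul, one_mul]
      add_mem' := fun {a b} ha hb u => by rw [add_mul, hadd, ha, hb, add_mul]
      zero_mem' := fun u => by rw [zero_mul, h0, zero_mul]
      neg_mem' := fun {a} ha u => by rw [neg_eq]; exact ha u
      inv_mem' := fun a ha => by
        intro u
        by_cases h : a = 0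
        · rw [h, inv_zero, zero_mul, h0, zero_mul]
        have h1 := ha (a⁻¹ * u)
        rw [mul_inv_cancel_left₀ h] at h1
        rw [h1, inv_mul_cancel_left₀ h] }
  have hK := subfield_eq_top hσ hσ2 K (fun l hl u => by
    obtain ⟨m, hm, rfl⟩ := sqrt_norm_one hl
    exact hφ m hm u)
  have h1 : u ∈ K := by rw [hK]; exact Subfield.mem_top _
  have h2 := h1 1
  rwa [mul_one] at h2

include hσ hσ2 in
/-- The maps of `(6)` : `Tr(σ(u) b(u)) = 0` for all `u`. -/
theorem alt_of (b : F → F) (hadd : ∀ x y, b (x + y) = b x + b y)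
    (hb : ∀ u, σ u * b u + σ (σ u * b u) = 0) : ∃ c : F, σ c = c ∧ ∀ u, b u = c * u := by
  obtain ⟨y, hy⟩ := exists_moved hσ
  have hy0 : y ≠ 0 := by rintro rfl; exact hy (map_zero σ)
  have h0 : b 0 = 0 := by
    have := hadd 0 0
    rw [add_zero] at this
    exact (left_eq_add).1 this
  have key : ∀ u : F, u ≠ 0 → ∃ c : F, σ c = c ∧ b u = c * u := by
    intro u hu
    refine ⟨b u / u, ?_, by rw [div_mul_cancel₀ _ hu]⟩
    have h1 := tr_eq_zero.1 (hb u)
    rw [map_mul, hσ2] at h1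
    have hsu : σ u ≠ 0 := fun h => hu ((map_eq_zero_iff σ σ.injective).1 h)
    rw [map_div₀, div_eq_div_iff hsu hu]
    rw [mul_comm, h1, mul_comm]
  -- independent vectors have the same factor
  have ind : ∀ u v c d : F, u ≠ 0 → v ≠ 0 → σ (v / u) ≠ v / u → σ c = c → σ d = d → b u = c * u → b v = d * v → c = d := by
    intro u v c d hu hv huv hc hd hbu hbv
    have huv0 : u + v ≠ 0 := by
      intro h
      have := eq_of_add h
      rw [this, div_self hv] at huv
      exact huv (map_one σ)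
    obtain ⟨e, he, hbe⟩ := key (u + v) huv0
    have h1 : e * (u + v) = c * u + d * v := by rw [← hbe, hadd, hbu, hbv]
    have h2 : (e + c) * u = (e + d) * v := by
      have h3 : (e + c) * u + (e + d) * v = 0 := by
        have : (e + c) * u + (e + d) * v = e * (u + v) + (c * u + d * v) := by ring
        rw [this, h1, add_self]
      exact eq_of_add h3
    have h4 : e + d = 0 := by
      by_contra hne
      apply huv
      have h5 : v / u = (e + c) / (e + d) := by
        rw [div_eq_div_iff hu hne]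
        rw [mul_comm, ← h2]
      rw [h5, map_div₀, map_add, map_add, he, hc, hd]
    have h6 : e + c = 0 := by
      rw [h4, zero_mul] at h2
      rcases mul_eq_zero.1 h2 with h | h
      · exact h
      · exact absurd h hu
    rw [← eq_of_add h6, ← eq_of_add h4]
  obtain ⟨c, hc, hbc⟩ := key y hy0
  obtain ⟨c1, hc1, hb1⟩ := key 1 one_ne_zero
  have hcc : c1 = c := ind 1 y c1 c one_ne_zero hy0 (by rw [div_one]; exact hy) hc1 hc hb1 hbc
  refine ⟨c, hc, fun u => ?_⟩
  by_cases hu : u = 0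
  · rw [hu, h0, mul_zero]
  obtain ⟨d, hd, hbd⟩ := key u hu
  by_cases hf : σ u = u
  · have := ind u y d c hu hy0 (by
      rw [map_div₀, hf]
      intro h
      exact hy ((div_left_inj' hu).1 h)) hd hc hbd hbc
    rw [hbd, this]
  · have := ind 1 u c1 d one_ne_zero hu (by rw [div_one]; exact hf) hc1 hd hb1 hbd
    rw [hbd, ← this, hcc]

end

end Cfsg.Agent.Omega.NO1.HermField

end

section


/-!
# Mini-McLaughlin (theorem NAT of NO-1', step (4))

`K` acts on the finite `F₂`-space `V`, `N` is a normal subgroup of `K`; `Phi N a` is the space of the functionals `φ`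
such that the transvection `v ↦ v + φ v • a` is induced by `N`.  `Pts` is a transitive `K`-set of centres that spans `V`, `dim Phi N a ≥ 2`, and
the functionals have no common zero.  Then `V` is the direct sum of subspaces `comp p` all of whose nonzero vectors
are centres, and `Phi N p` is the space of all functionals of `comp p` that vanish at `p`.
-/

set_option autoImplicit false

namespace Cfsg.Agent.Omega.NO1.MiniMcL

open Cfsg.Agent.Omega.Transv

variable {K : Type*} [Group K] {V : Type*} [AddCommGroup V] [Module (ZMod 2) V] [DistribMulAction K V]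

/-- the functionals of the transvections with centre `a` that are induced by `N` -/
def Phi (N : Subgroup K) (a : V) : Submodule (ZMod 2) (Du V) where
  carrier := {φ | φ a = 0 ∧ ∃ d ∈ N, ∀ v : V, d • v = v + φ v • a}
  add_mem' := by
    rintro φ ψ ⟨h1, d, hN, hd⟩ ⟨h2, e, hN', he⟩
    refine ⟨by rw [LinearMap.add_apply, h1, h2, add_zero], d * e, mul_mem hN hN', fun v => ?_⟩
    rw [mul_smul, he, hd, map_add, map_smul, h1, smul_zero, add_zero, LinearMap.add_apply, add_smul]
    abel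
  zero_mem' := ⟨rfl, 1, one_mem N, fun v => by simp⟩
  smul_mem' := by
    rintro c φ ⟨h1, d, hN, hd⟩
    rcases zmod_cases c with h | h
    · subst h
      exact ⟨by simp, 1, one_mem N, fun v => by simp⟩
    · subst h
      exact ⟨by simp [h1], d, hN, fun v => by simp [hd]⟩

variable {N : Subgroup K}

theorem mem_Phi {a : V} {φ : Du V} :
    φ ∈ Phi N a ↔ φ a = 0 ∧ ∃ d ∈ N, ∀ v : V, d • v = v + φ v • a := Iff.rfl

theorem Phi_self {a : V} {φ : Du V} (h : φ ∈ Phi N a) : φ a = 0 := h.1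

theorem Phi_tv {a : V} {φ : Du V} (ha : a ≠ 0) (h : φ ∈ Phi N a) (h0 : φ ≠ 0) :
    ∃ d ∈ N, Tv d a φ := by
  obtain ⟨d, hN, hd⟩ := h.2
  exact ⟨d, hN, ha, h0, hd⟩

theorem Phi_smul [N.Normal] {a : V} {φ : Du V} (g : K) (h : φ ∈ Phi N a) : dua g φ ∈ Phi N (g • a) := by
  obtain ⟨h1, d, hN, hd⟩ := h
  refine ⟨by rw [dua_apply, inv_smul_smul, h1], g * d * g⁻¹, Subgroup.Normal.conj_mem inferInstance d hN g,
    fun v => ?_⟩
  rw [mul_smul, mul_smul, hd, smul_add, smul_inv_smul, smul_zmod, dua_apply]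

theorem dua_inv_dua (g : K) (φ : Du V) : dua g⁻¹ (dua g φ) = φ := by
  ext v
  simp

theorem dua_dua_inv (g : K) (φ : Du V) : dua g (dua g⁻¹ φ) = φ := by
  ext v
  simp

theorem dua_injective (g : K) : Function.Injective (dua g : Du V → Du V) := fun φ ψ h => by
  rw [← dua_inv_dua g φ, h, dua_inv_dua]

theorem Phi_smul_eq [N.Normal] (g : K) (a : V) : (Phi N (g • a) : Set (Du V)) = dua g '' (Phi N a : Set (Du V)) := by
  ext φ
  constructor
  · intro h
    refine ⟨dua g⁻¹ φ, ?_, dua_dua_inv g φ⟩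
    have h1 := Phi_smul g⁻¹ h
    rwa [inv_smul_smul] at h1
  · rintro ⟨ψ, h, rfl⟩
    exact Phi_smul g h

theorem ncard_Phi [N.Normal] (g : K) (a : V) : (Phi N (g • a) : Set (Du V)).ncard = (Phi N a : Set (Du V)).ncard := by
  rw [Phi_smul_eq, Set.ncard_image_of_injective _ (dua_injective g)]

/-- a transvection of `Phi N b`, `ψ a = 1`, moves `(a, φ)` to `(a + b, φ + φ b • ψ)` -/
theorem step [N.Normal] {a b : V} {φ ψ : Du V} (h : φ ∈ Phi N a) (h' : ψ ∈ Phi N b) (h1 : ψ a = 1) :
    φ + φ b • ψ ∈ Phi N (a + b) := by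
  obtain ⟨h2, e, -, he⟩ := h'
  have h3 := Phi_smul e h
  rw [he a, h1, one_smul] at h3
  have h4 : dua e φ = φ + φ b • ψ := by
    ext v
    rw [dua_apply, LinearMap.add_apply, LinearMap.smul_apply, smul_eq_mul]
    have h5 : e⁻¹ • v = v + ψ v • b := by
      rw [inv_smul_eq_iff, he, map_add, map_smul, h2, smul_zero, add_zero, add_add_self]
    rw [h5, map_add, map_smul, smul_eq_mul, mul_comm]
  rwa [h4] at h3

theorem step_smul {a b : V} {φ : Du V} (h' : φ ∈ Phi N b) (h1 : φ a = 1) : ∃ g ∈ N, g • a = a + b := by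
  obtain ⟨h2, e, hN, he⟩ := h'
  exact ⟨e, hN, by rw [he, h1, one_smul]⟩

/-- two nonzero functionals take the value `1` at a common point -/
theorem exists_one_one {U : Submodule (ZMod 2) V} {φ ψ : Du V} (h1 : ∃ a ∈ U, φ a = 1)
    (h2 : ∃ b ∈ U, ψ b = 1) : ∃ r ∈ U, φ r = 1 ∧ ψ r = 1 := by
  obtain ⟨a, ha, h1⟩ := h1
  obtain ⟨b, hb, h2⟩ := h2
  rcases zmod_cases (ψ a) with h3 | h3
  · rcases zmod_cases (φ b) with h4 | h4
    · exact ⟨a + b, add_mem ha hb, by rw [map_add, h1, h4, add_zero], by rw [map_add, h3, h2, zero_add]⟩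
    · exact ⟨b, hb, h4, h2⟩
  · exact ⟨a, ha, h1, h3⟩

/-- the configuration -/
structure Cfg {K : Type*} [Group K] (N : Subgroup K) {V : Type*} [AddCommGroup V] [Module (ZMod 2) V]
    [DistribMulAction K V] (Pts : Set V) : Prop where
  /-- `N` is normal -/
  nor : N.Normal
  /-- the centres are not zero -/
  ne : ∀ a ∈ Pts, a ≠ 0
  /-- `Pts` is invariant -/
  inv : ∀ (g : K), ∀ a ∈ Pts, g • a ∈ Pts
  /-- `Pts` is transitive -/
  tr : ∀ a ∈ Pts, ∀ b ∈ Pts, ∃ g : K, g • a = b
  /-- `Pts` spans -/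
  span : Submodule.span (ZMod 2) Pts = ⊤
  /-- `dim Phi ≥ 2` -/
  two : ∀ a ∈ Pts, ∃ φ ∈ Phi N a, ∃ ψ ∈ Phi N a, φ ≠ 0 ∧ ψ ≠ 0 ∧ φ ≠ ψ
  /-- no common zero -/
  rad : ∀ v : V, (∀ a ∈ Pts, ∀ φ ∈ Phi N a, φ v = 0) → v = 0

variable (N) in
/-- `b` is moved by a transvection with centre `a` -/
def Adj (a b : V) : Prop := ∃ φ ∈ Phi N a, φ b = 1

theorem not_adj {a b : V} : ¬ Adj N a b ↔ ∀ φ ∈ Phi N a, φ b = 0 := by
  constructor
  · intro h φ hφ
    exact eq_zero_of_ne fun h1 => h ⟨φ, hφ, h1⟩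
  · rintro h ⟨φ, hφ, h1⟩
    rw [h φ hφ] at h1
    exact one_ne h1.symm

theorem not_adj_self (a : V) : ¬ Adj N a a := not_adj.2 fun _ h => h.1

variable (N) in
/-- the functionals of `Phi N a` that vanish at `b` -/
def Per (a b : V) : Set (Du V) := {φ | φ ∈ Phi N a ∧ φ b = 0}

theorem hyp_eq {a b c : V} (h : Per N a b ⊆ Per N a c) (hc : Adj N a c) : Per N a b = Per N a c := by
  refine Set.Subset.antisymm h ?_
  rintro φ ⟨h1, h2⟩
  refine ⟨h1, eq_zero_of_ne fun h3 => ?_⟩
  obtain ⟨ψ, h4, h5⟩ := hc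
  have h6 : ψ b = 1 := by
    refine eq_one_of_ne fun h7 => ?_
    have h8 := (h ⟨h4, h7⟩ : ψ ∈ Per N a c).2
    rw [h5] at h8
    exact one_ne h8
  have h7 : φ + ψ ∈ Per N a b := ⟨add_mem h1 h4, by rw [LinearMap.add_apply, h3, h6, one_add_one]⟩
  have h8 := (h h7).2
  rw [LinearMap.add_apply, h2, h5, zero_add] at h8
  exact one_ne h8

/-- (a) -/
theorem per_comm [N.Normal] {a b : V} (h : Adj N a b) (h' : Adj N b a) : Per N a b = Per N b a := by
  have key : ∀ {a b : V}, Adj N a b → Adj N b a → Per N a b ⊆ Per N b a := by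
    rintro a b ⟨φ, h1, h2⟩ ⟨ψ, h3, h4⟩ χ ⟨h5, h6⟩
    -- `χ ∈ Phi (a + b)`
    have h7 := step h5 h3 h4
    rw [h6, zero_smul, add_zero] at h7
    -- `χ ∈ Phi b`
    have h8 : φ (a + b) = 1 := by rw [map_add, h1.1, h2, zero_add]
    have h9 := step h7 h1 h8
    rw [h5.1, zero_smul, add_zero, show a + b + a = b by rw [add_comm a b, add_add_self]] at h9
    exact ⟨h9, h5.1⟩
  exact Set.Subset.antisymm (key h h') (key h' h)

namespace Cfg

variable {Pts : Set V} (C : Cfg N Pts)
include C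

theorem le_eq [Finite V] {a b : V} (ha : a ∈ Pts) (hb : b ∈ Pts) (h : Phi N a ≤ Phi N b) :
    Phi N a = Phi N b := by
  have := C.nor
  obtain ⟨g, rfl⟩ := C.tr a ha b hb
  apply SetLike.coe_injective
  have : Finite (Du V) := Finite.of_injective (fun φ : Du V => (φ : V → ZMod 2)) DFunLike.coe_injective
  exact Set.eq_of_subset_of_ncard_le h (ncard_Phi g a).le (Set.toFinite _)

/-- (b) -/
theorem adj_symm [Finite V] {a b : V} (ha : a ∈ Pts) (hb : b ∈ Pts) (h : Adj N a b) : Adj N b a := by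
  have := C.nor
  by_contra hcon
  rw [not_adj] at hcon
  obtain ⟨φ, h1, h2⟩ := h
  have h3 : Phi N b ≤ Phi N a := by
    intro ψ hψ
    -- `ψ ∈ Phi (b + a)`
    have h4 := step hψ h1 h2
    rw [hcon ψ hψ, zero_smul, add_zero] at h4
    obtain ⟨h5, d, hN, hd⟩ := hψ
    obtain ⟨h6, e, hN', he⟩ := h4
    refine ⟨hcon ψ ⟨h5, d, hN, hd⟩, d * e, mul_mem hN hN', fun v => ?_⟩
    rw [mul_smul, he, hd, map_add, map_smul, h6, smul_zero, add_zero, smul_add]
    rw [show v + (ψ v • b + ψ v • a) + ψ v • b = v + ψ v • a + (ψ v • b + ψ v • b) by abel, add_self, add_zero]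
  have h4 := C.le_eq hb ha h3
  rw [← h4] at h1
  rw [h1.1] at h2
  exact one_ne h2.symm

theorem per_comm [Finite V] {a b : V} (ha : a ∈ Pts) (hb : b ∈ Pts) (h : Adj N a b) :
    Per N a b = Per N b a :=
  have := C.nor
  MiniMcL.per_comm h (C.adj_symm ha hb h)

/-- (c) -/
theorem per_eq [Finite V] {p q r : V} (hp : p ∈ Pts) (hq : q ∈ Pts) (hr : r ∈ Pts) (h1 : Adj N p q)
    (h2 : Adj N q r) (h3 : ¬ Adj N p r) : Per N q p = Per N q r := by
  have key : ∀ {p q r : V}, p ∈ Pts → q ∈ Pts → r ∈ Pts → Adj N p q → Adj N q r → ¬ Adj N p r →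
      Per N q p ⊆ Per N q r := by
    intro p q r hp hq hr h1 h2 h3 φ hφ
    refine ⟨hφ.1, ?_⟩
    rw [← C.per_comm hp hq h1] at hφ
    exact not_adj.1 h3 φ hφ.1
  exact Set.Subset.antisymm (key hp hq hr h1 h2 h3)
    (key hr hq hp (C.adj_symm hq hr h2) (C.adj_symm hp hq h1) fun h => h3 (C.adj_symm hr hp h))

omit C in
theorem eval_eq {p q r : V} (h : Per N q p = Per N q r) {φ : Du V} (hφ : φ ∈ Phi N q) : φ p = φ r := by
  by_cases h0 : φ p = 0
  · have h1 : φ ∈ Per N q p := ⟨hφ, h0⟩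
    rw [h] at h1
    rw [h0, h1.2]
  · have h2 : φ r ≠ 0 := by
      intro h3
      have h1 : φ ∈ Per N q r := ⟨hφ, h3⟩
      rw [← h] at h1
      exact h0 h1.2
    rw [eq_one_of_ne h0, eq_one_of_ne h2]

/-- a second functional -/
theorem exists_second {p q : V} (hp : p ∈ Pts) :
    ∃ r ∈ Pts, Adj N p r ∧ Per N p r ≠ Per N p q := by
  by_contra hcon
  push Not at hcon
  obtain ⟨φ, h1, ψ, h2, h3, h4, h5⟩ := C.two p hp
  have key : ∀ χ ∈ Per N p q, χ = 0 := by
    intro χ hχ
    have h6 : Submodule.span (ZMod 2) Pts ≤ LinearMap.ker χ := by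
      rw [Submodule.span_le]
      intro r hr
      rw [SetLike.mem_coe, LinearMap.mem_ker]
      by_cases h7 : Adj N p r
      · rw [← hcon r hr h7] at hχ
        exact hχ.2
      · exact not_adj.1 h7 χ hχ.1
    rw [C.span, top_le_iff, LinearMap.ker_eq_top] at h6
    exact h6
  have h6 : φ q = 1 := eq_one_of_ne fun h => h3 (key φ ⟨h1, h⟩)
  have h7 : ψ q = 1 := eq_one_of_ne fun h => h4 (key ψ ⟨h2, h⟩)
  have h8 := key (φ + ψ) ⟨add_mem h1 h2, by rw [LinearMap.add_apply, h6, h7, one_add_one]⟩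
  apply h5
  ext v
  have h9 : (φ + ψ) v = 0 := by rw [h8]; rfl
  exact eq_of_add h9

/-- (d) : two points at distance two are equal -/
theorem trans' [Finite V] {p q r : V} (hp : p ∈ Pts) (hq : q ∈ Pts) (hr : r ∈ Pts) (h1 : Adj N p q)
    (h2 : Adj N q r) (h3 : ¬ Adj N p r) : p = r := by
  obtain ⟨s, hs, h4, h5⟩ := C.exists_second (q := q) hp
  have hpq := C.per_comm hp hq h1
  have hqr := C.per_eq hp hq hr h1 h2 h3
  have hrq := C.per_comm hq hr h2
  -- `q ~ s`
  have h6 : Adj N q s := by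
    by_contra hcon
    exact h5 (C.per_eq hq hp hs (C.adj_symm hp hq h1) h4 hcon).symm
  -- `r ~ s`
  have h7 : Adj N r s := by
    by_contra hcon
    have h8 := C.per_eq hr hq hs (C.adj_symm hq hr h2) h6 hcon
    have h9 : Per N p q ⊆ Per N p s := by
      intro φ hφ
      refine ⟨hφ.1, ?_⟩
      rw [hpq, hqr, h8] at hφ
      exact hφ.2
    exact h5 (hyp_eq h9 h4).symm
  have h8 := C.per_eq hp hs hr h4 (C.adj_symm hr hs h7) h3
  have h9 : Per N p s = Per N r s := by
    rw [C.per_comm hp hs h4, h8, C.per_comm hr hs h7]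
  have h9' : Per N p q = Per N r q := by rw [hpq, hqr, hrq]
  -- `Phi p ≤ Phi r`
  have h10 : Phi N p ≤ Phi N r := by
    intro φ hφ
    by_cases h11 : φ s = 0
    · have h12 : φ ∈ Per N p s := ⟨hφ, h11⟩
      rw [h9] at h12
      exact h12.1
    have h11' := eq_one_of_ne h11
    obtain ⟨α, h12, h13⟩ : ∃ α ∈ Per N p q, α s = 1 := by
      by_contra hcon
      push Not at hcon
      exact h5 (hyp_eq (fun α hα => ⟨hα.1, eq_zero_of_ne (hcon α hα)⟩) h4).symm
    have h14 : φ + α ∈ Per N p s :=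
      ⟨add_mem hφ h12.1, by rw [LinearMap.add_apply, h11', h13, one_add_one]⟩
    rw [h9] at h14
    rw [h9'] at h12
    have h15 := sub_mem h14.1 h12.1
    rwa [add_sub_cancel_right] at h15
  have h11 := C.le_eq hp hr h10
  have h12 : p + r = 0 := by
    refine C.rad _ fun x hx ψ hψ => ?_
    rw [map_add]
    by_cases h13 : Adj N p x
    · have h14 : Adj N r x := by
        obtain ⟨φ, h15, h16⟩ := h13
        exact ⟨φ, h11 ▸ h15, h16⟩
      rw [eval_eq (C.per_eq hp hx hr h13 (C.adj_symm hr hx h14) h3) hψ, add_self]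
    · have h14 : ¬ Adj N r x := by
        rintro ⟨φ, h15, h16⟩
        rw [← h11] at h15
        exact h13 ⟨φ, h15, h16⟩
      have h15 : ¬ Adj N x p := fun h => h13 (C.adj_symm hx hp h)
      have h16 : ¬ Adj N x r := fun h => h14 (C.adj_symm hx hr h)
      rw [not_adj.1 h15 ψ hψ, not_adj.1 h16 ψ hψ, add_zero]
  exact eq_of_add h12

theorem trans [Finite V] {p q r : V} (hp : p ∈ Pts) (hq : q ∈ Pts) (hr : r ∈ Pts) (h1 : Adj N p q)
    (h2 : Adj N q r) (h3 : p ≠ r) : Adj N p r := by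
  by_contra hcon
  exact h3 (C.trans' hp hq hr h1 h2 hcon)

theorem add_mem_pts [Finite V] {p q : V} (hp : p ∈ Pts) (hq : q ∈ Pts) (h1 : Adj N p q) : p + q ∈ Pts := by
  obtain ⟨φ, h2, h3⟩ := C.adj_symm hp hq h1
  obtain ⟨g, -, hg⟩ := step_smul h2 h3
  rw [← hg]
  exact C.inv g p hp

omit C in
theorem adj_add {p q : V} (h1 : Adj N p q) : Adj N p (p + q) := by
  obtain ⟨φ, h2, h3⟩ := h1
  exact ⟨φ, h2, by rw [map_add, h2.1, h3, zero_add]⟩

/-- the component of `p` -/
def comp [Finite V] {p : V} (hp : p ∈ Pts) : Submodule (ZMod 2) V where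
  carrier := {v | v = 0 ∨ v = p ∨ (v ∈ Pts ∧ Adj N p v)}
  zero_mem' := Or.inl rfl
  add_mem' := by
    have key : ∀ {v : V}, v ∈ Pts → Adj N p v → p + v ∈ Pts ∧ Adj N p (p + v) := fun hv h =>
      ⟨C.add_mem_pts hp hv h, adj_add h⟩
    rintro v w (rfl | rfl | ⟨hv, h1⟩) (rfl | rfl | ⟨hw, h2⟩)
    · exact Or.inl (add_zero _)
    · exact Or.inr (Or.inl (zero_add _))
    · rw [zero_add]; exact Or.inr (Or.inr ⟨hw, h2⟩)
    · exact Or.inr (Or.inl (add_zero _))
    · exact Or.inl (add_self _)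
    · exact Or.inr (Or.inr (key hw h2))
    · rw [add_zero]; exact Or.inr (Or.inr ⟨hv, h1⟩)
    · rw [add_comm v w]; exact Or.inr (Or.inr (key hv h1))
    · by_cases h3 : v = w
      · subst h3; exact Or.inl (add_self _)
      have h4 : Adj N v w := C.trans hv hp hw (C.adj_symm hp hv h1) h2 h3
      have h5 := C.add_mem_pts hv hw h4
      by_cases h6 : v + w = p
      · exact Or.inr (Or.inl h6)
      · exact Or.inr (Or.inr ⟨h5, C.trans hp hv h5 h1 (adj_add h4) fun h => h6 h.symm⟩)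
  smul_mem' := by
    intro c v hv
    rcases zmod_cases c with h | h
    · subst h; exact Or.inl (zero_smul _ _)
    · subst h; rwa [one_smul]

theorem mem_comp [Finite V] {p v : V} (hp : p ∈ Pts) :
    v ∈ C.comp hp ↔ v = 0 ∨ v = p ∨ (v ∈ Pts ∧ Adj N p v) := Iff.rfl

theorem self_mem_comp [Finite V] {p : V} (hp : p ∈ Pts) : p ∈ C.comp hp := Or.inr (Or.inl rfl)

theorem comp_pts [Finite V] {p v : V} (hp : p ∈ Pts) (hv : v ∈ C.comp hp) (h0 : v ≠ 0) : v ∈ Pts := by
  rcases hv with h | h | h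
  · exact absurd h h0
  · rw [h]; exact hp
  · exact h.1

/-- the components are a partition -/
theorem comp_eq [Finite V] {p v : V} (hp : p ∈ Pts) (hv : v ∈ Pts) (h1 : v ∈ C.comp hp) :
    C.comp hv = C.comp hp := by
  have key : ∀ {p v : V} (hp : p ∈ Pts) (hv : v ∈ Pts), Adj N p v → C.comp hv ≤ C.comp hp := by
    intro p v hp hv h w hw
    rcases hw with rfl | rfl | ⟨h2, h3⟩
    · exact Or.inl rfl
    · exact Or.inr (Or.inr ⟨hv, h⟩)
    · by_cases h4 : w = p
      · exact Or.inr (Or.inl h4)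
      · exact Or.inr (Or.inr ⟨h2, C.trans hp hv h2 h h3 fun h => h4 h.symm⟩)
  rcases h1 with h | h | h
  · exact absurd h (C.ne v hv)
  · subst h; rfl
  · exact le_antisymm (key hp hv h.2) (key hv hp (C.adj_symm hp hv h.2))

/-- the functionals of `Phi p` vanish on the other components -/
theorem Phi_off [Finite V] {p q : V} (hp : p ∈ Pts) (hq : q ∈ Pts) (h1 : q ∉ C.comp hp) {φ : Du V}
    (hφ : φ ∈ Phi N p) : φ q = 0 :=
  eq_zero_of_ne fun h => h1 (Or.inr (Or.inr ⟨hq, φ, hφ, h⟩))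

/-- the functionals of `Phi p` separate the points of the component outside `⟨p⟩` -/
theorem Phi_sep [Finite V] {p v : V} (hp : p ∈ Pts) (hv : v ∈ C.comp hp) (h0 : v ≠ 0) (h1 : v ≠ p) :
    ∃ φ ∈ Phi N p, φ v = 1 := by
  rcases hv with h | h | h
  · exact absurd h h0
  · exact absurd h h1
  · exact h.2

/-- a functional of `Phi p` is determined by its restriction to the component of `p` -/
theorem Phi_ext [Finite V] {p : V} (hp : p ∈ Pts) {φ ψ : Du V} (h1 : φ ∈ Phi N p) (h2 : ψ ∈ Phi N p)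
    (h3 : ∀ v ∈ C.comp hp, φ v = ψ v) : φ = ψ := by
  have h4 : Submodule.span (ZMod 2) Pts ≤ LinearMap.ker (φ + ψ) := by
    rw [Submodule.span_le]
    intro v hv
    rw [SetLike.mem_coe, LinearMap.mem_ker, LinearMap.add_apply]
    by_cases h5 : v ∈ C.comp hp
    · rw [h3 v h5, add_self]
    · rw [C.Phi_off hp hv h5 h1, C.Phi_off hp hv h5 h2, add_zero]
  rw [C.span, top_le_iff, LinearMap.ker_eq_top] at h4
  ext v
  have h9 : (φ + ψ) v = 0 := by rw [h4]; rfl
  exact eq_of_add h9

/-- **Mini-McLaughlin**: `Phi p` induces all functionals of the component that vanish at `p` -/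
theorem Phi_full [Finite V] {p : V} (hp : p ∈ Pts) (f : Du (C.comp hp))
    (hf : f ⟨p, C.self_mem_comp hp⟩ = 0) : ∃ φ ∈ Phi N p, ∀ v : C.comp hp, φ v = f v := by
  classical
  have : Module.Finite (ZMod 2) (C.comp hp) := Module.Finite.of_finite
  let r : Du V →ₗ[ZMod 2] Du (C.comp hp) := LinearMap.lcomp (ZMod 2) (ZMod 2) (C.comp hp).subtype
  let A : Submodule (ZMod 2) (Du (C.comp hp)) := (Phi N p).map r
  have h1 : A.dualCoannihilator.dualAnnihilator = A := Subspace.dualCoannihilator_dualAnnihilator_eq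
  have h2 : f ∈ A := by
    rw [← h1, Submodule.mem_dualAnnihilator]
    intro w hw
    rw [Submodule.mem_dualCoannihilator] at hw
    by_cases h0 : w = 0
    · rw [h0, map_zero]
    by_cases h3 : (w : V) = p
    · have h4 : w = ⟨p, C.self_mem_comp hp⟩ := Subtype.ext h3
      rw [h4, hf]
    obtain ⟨φ, h4, h5⟩ := C.Phi_sep hp w.2 (fun h => h0 (Subtype.ext h)) h3
    have h6 := hw (r φ) (Submodule.mem_map_of_mem h4)
    have h7 : r φ w = φ w := rfl
    rw [h7, h5] at h6
    exact absurd h6 one_ne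
  obtain ⟨φ, h3, h4⟩ := h2
  refine ⟨φ, h3, fun v => ?_⟩
  rw [← h4]
  rfl

omit C in
/-- `K` acts on `~` -/
theorem adj_smul [N.Normal] {a b : V} (g : K) (h : Adj N a b) : Adj N (g • a) (g • b) := by
  obtain ⟨φ, h1, h2⟩ := h
  exact ⟨dua g φ, Phi_smul g h1, by rw [dua_apply, inv_smul_smul, h2]⟩

/-- `K` permutes the components -/
theorem comp_smul [Finite V] {p v : V} (hp : p ∈ Pts) (g : K) (hv : v ∈ C.comp hp) :
    g • v ∈ C.comp (C.inv g p hp) := by
  have := C.nor
  rcases hv with h | h | h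
  · left; rw [h, smul_zero]
  · right; left; rw [h]
  · right; right; exact ⟨C.inv g v h.1, adj_smul g h.2⟩

/-- the stabiliser of `p` acts on its component -/
theorem comp_smul_self [Finite V] {p v : V} (hp : p ∈ Pts) {g : K} (hg : g • p = p) (hv : v ∈ C.comp hp) :
    g • v ∈ C.comp hp := by
  have h1 := C.comp_smul hp g hv
  have h2 : C.comp (C.inv g p hp) = C.comp hp := by
    congr 1
  rwa [h2] at h1

/-- a transvection of `N` acts on every component -/
theorem comp_add [Finite V] {p a v : V} (hp : p ∈ Pts) (ha : a ∈ Pts) {φ : Du V} (hφ : φ ∈ Phi N a)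
    (hv : v ∈ C.comp hp) : v + φ v • a ∈ C.comp hp := by
  rcases zmod_cases (φ v) with h | h
  · rwa [h, zero_smul, add_zero]
  rw [h, one_smul]
  by_cases h0 : v = 0
  · rw [h0, map_zero] at h
    exact absurd h.symm one_ne
  have h1 := C.comp_pts hp hv h0
  have h2 := C.adj_symm ha h1 ⟨φ, hφ, h⟩
  have h3 : a ∈ C.comp h1 := Or.inr (Or.inr ⟨ha, h2⟩)
  rw [C.comp_eq hp h1 hv] at h3
  exact add_mem hv h3

/-- `φ₁` fixed, `φ₂ ↦ φ₃`: the centre `q` of the transvection with functional `φ₂ + φ₃` -/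
theorem exists_move [Finite V] {p : V} (hp : p ∈ Pts) {φ₁ φ₂ φ₃ : Du V} (h1 : φ₁ ∈ Phi N p)
    (h2 : φ₂ ∈ Phi N p) (h3 : φ₃ ∈ Phi N p) (n2 : φ₂ ≠ 0) (n3 : φ₃ ≠ 0) (n12 : φ₂ ≠ φ₁)
    (n13 : φ₃ ≠ φ₁) :
    ∃ q ∈ C.comp hp, q ≠ 0 ∧ q ≠ p ∧ φ₂ + φ₃ ∈ Phi N q ∧ φ₁ q = 0 ∧ φ₂ q = 1 ∧ φ₃ q = 1 := by
  have key : ∀ {φ : Du V}, φ ∈ Phi N p → φ ≠ 0 → φ ≠ φ₁ → ∃ q ∈ C.comp hp, φ₁ q = 0 ∧ φ q = 1 := by
    intro φ hφ n0 n1
    by_contra hcon
    push Not at hcon
    -- `φ` vanishes on `ker φ₁`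
    have h4 : ∀ v ∈ C.comp hp, φ₁ v = 0 → φ v = 0 := fun v hv h => eq_zero_of_ne (hcon v hv h)
    by_cases h5 : ∃ v ∈ C.comp hp, φ v = 1
    · obtain ⟨v, hv, h6⟩ := h5
      have h7 : φ₁ v = 1 := eq_one_of_ne fun h => by rw [h4 v hv h] at h6; exact one_ne h6.symm
      refine n1 (C.Phi_ext hp hφ h1 fun w hw => ?_)
      rcases zmod_cases (φ₁ w) with h8 | h8
      · rw [h8, h4 w hw h8]
      · have h9 := h4 (w + v) (add_mem hw hv) (by rw [map_add, h8, h7, one_add_one])
        rw [map_add, h6] at h9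
        rw [h8]
        exact eq_of_add h9
    · push Not at h5
      refine n0 (C.Phi_ext hp hφ (zero_mem _) fun w hw => ?_)
      rw [eq_zero_of_ne (h5 w hw)]
      rfl
  obtain ⟨q, hq, h4, h5, h6⟩ : ∃ q ∈ C.comp hp, φ₁ q = 0 ∧ φ₂ q = 1 ∧ φ₃ q = 1 := by
    obtain ⟨a, ha, h4, h5⟩ := key h2 n2 n12
    obtain ⟨b, hb, h6, h7⟩ := key h3 n3 n13
    rcases zmod_cases (φ₃ a) with h8 | h8
    · rcases zmod_cases (φ₂ b) with h9 | h9
      · exact ⟨a + b, add_mem ha hb, by rw [map_add, h4, h6, add_zero],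
          by rw [map_add, h5, h9, add_zero], by rw [map_add, h8, h7, zero_add]⟩
      · exact ⟨b, hb, h6, h9, h7⟩
    · exact ⟨a, ha, h4, h5, h8⟩
  have hq0 : q ≠ 0 := fun h => by rw [h, map_zero] at h5; exact one_ne h5.symm
  have hqp : q ≠ p := fun h => by rw [h, h2.1] at h5; exact one_ne h5.symm
  refine ⟨q, hq, hq0, hqp, ?_, h4, h5, h6⟩
  have h7 : φ₂ + φ₃ ∈ Per N p q := ⟨add_mem h2 h3, by rw [LinearMap.add_apply, h5, h6, one_add_one]⟩
  rw [C.per_comm hp (C.comp_pts hp hq hq0) ⟨φ₂, h2, h5⟩] at h7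
  exact h7.1

/-- `dim (comp p) ≥ 4`: the transvection `(q, ψ)`, `ψ p = 0`, is the commutator of `(q, χ)` and `(r, ψ)` -/
theorem exists_comm [Finite V] {p : V} (hp : p ∈ Pts) (h16 : 8 < Nat.card (C.comp hp)) {q : V}
    (hq : q ∈ C.comp hp) (hq0 : q ≠ 0) (hqp : q ≠ p) {ψ : Du V} (h1 : ψ ∈ Phi N q) (h2 : ψ p = 0) :
    ∃ r ∈ C.comp hp, ∃ χ : Du V, r ≠ 0 ∧ r ≠ p ∧ ψ ∈ Phi N r ∧ χ ∈ Phi N q ∧ χ p = 0 ∧ χ r = 1 := by
  classical
  have hqP := C.comp_pts hp hq hq0
  have hpq : Adj N p q := by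
    obtain ⟨φ, h3, h4⟩ := C.Phi_sep hp hq hq0 hqp
    exact ⟨φ, h3, h4⟩
  have hqp' := C.adj_symm hp hqP hpq
  have hψp : ψ ∈ Phi N p := by
    have h3 : ψ ∈ Per N q p := ⟨h1, h2⟩
    rw [← C.per_comm hp hqP hpq] at h3
    exact h3.1
  -- `r`
  have h3 : ∃ r ∈ C.comp hp, ψ r = 0 ∧ r ∉ Submodule.span (ZMod 2) {p, q} := by
    by_contra hcon
    push Not at hcon
    -- the map `v ↦ v` on `ker ψ`
    let N : Submodule (ZMod 2) V := C.comp hp ⊓ LinearMap.ker ψ
    have h4 : N ≤ Submodule.span (ZMod 2) {p, q} := fun r hr => hcon r hr.1 (LinearMap.mem_ker.1 hr.2)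
    have h5 : Nat.card (Submodule.span (ZMod 2) ({p, q} : Set V)) ≤ 4 := by
      have h6 : ((Submodule.span (ZMod 2) ({p, q} : Set V) : Submodule (ZMod 2) V) : Set V) ⊆
          (({0, p, q, p + q} : Finset V) : Set V) := by
        intro v hv
        rw [SetLike.mem_coe, Submodule.mem_span_pair] at hv
        obtain ⟨a, b, rfl⟩ := hv
        rcases zmod_cases a with h | h <;> rcases zmod_cases b with h' | h' <;> subst h <;> subst h' <;>
          simp
      have h7 := Set.ncard_le_ncard h6 (Finset.finite_toSet _)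
      rw [Set.ncard_coe_finset] at h7
      refine le_trans ?_ (h7.trans Finset.card_le_four)
      exact le_of_eq rfl
    have h6 : Nat.card N ≤ 4 := by
      refine le_trans ?_ h5
      exact Nat.card_le_card_of_injective (Submodule.inclusion h4) (Submodule.inclusion_injective h4)
    -- `comp ≤ N ∪ (v + N)`
    have h7 : Nat.card (C.comp hp) ≤ 2 * Nat.card N := by
      by_cases h8 : ∃ v ∈ C.comp hp, ψ v = 1
      · obtain ⟨v, hv, h9⟩ := h8
        have h10 : ∀ w : C.comp hp, ∃ x : ZMod 2 × N, (w : V) = x.1 • v + x.2 := by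
          intro w
          rcases zmod_cases (ψ w) with h11 | h11
          · exact ⟨(0, ⟨w, w.2, h11⟩), by simp⟩
          · refine ⟨(1, ⟨v + w, add_mem hv w.2, ?_⟩), ?_⟩
            · rw [SetLike.mem_coe, LinearMap.mem_ker, map_add, h9, h11, one_add_one]
            · rw [one_smul, ← add_assoc, add_self, zero_add]
        choose f hf using h10
        have h11 : Function.Injective f := fun w w' h => Subtype.ext (by rw [hf w, hf w', h])
        refine (Nat.card_le_card_of_injective f h11).trans ?_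
        rw [Nat.card_prod, Nat.card_zmod]
      · push Not at h8
        have h9 : C.comp hp ≤ N := fun v hv => ⟨hv, LinearMap.mem_ker.2 (eq_zero_of_ne (h8 v hv))⟩
        refine (Nat.card_le_card_of_injective (Submodule.inclusion h9)
          (Submodule.inclusion_injective h9)).trans (by omega)
    omega
  obtain ⟨r, hr, h4, h5⟩ := h3
  have hr0 : r ≠ 0 := fun h => h5 (h ▸ zero_mem _)
  have hrp : r ≠ p := fun h => h5 (h ▸ Submodule.subset_span (Set.mem_insert _ _))
  have hrq : r ≠ q := fun h => h5 (h ▸ Submodule.subset_span (Set.mem_insert_of_mem _ rfl))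
  have hrP := C.comp_pts hp hr hr0
  -- `ψ ∈ Phi r`
  have hpr : Adj N p r := by
    obtain ⟨φ, h6, h7⟩ := C.Phi_sep hp hr hr0 hrp
    exact ⟨φ, h6, h7⟩
  have h6 : ψ ∈ Per N p r := ⟨hψp, h4⟩
  rw [C.per_comm hp hrP hpr] at h6
  -- `χ`
  obtain ⟨f, h7, h8⟩ := Submodule.exists_le_ker_of_notMem h5
  obtain ⟨χ, h9, h10⟩ := C.Phi_full hp (f.comp (C.comp hp).subtype)
    (LinearMap.mem_ker.1 (h8 (Submodule.subset_span (Set.mem_insert _ _))))
  have h11 : χ q = 0 := by
    rw [h10 ⟨q, hq⟩]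
    exact LinearMap.mem_ker.1 (h8 (Submodule.subset_span (Set.mem_insert_of_mem _ rfl)))
  have h12 : χ r = 1 := by
    rw [h10 ⟨r, hr⟩]
    exact eq_one_of_ne h7
  have h13 : χ ∈ Per N p q := ⟨h9, h11⟩
  rw [C.per_comm hp hqP hpq] at h13
  exact ⟨r, hr, χ, hr0, hrp, h6.1, h13.1, h9.1, h12⟩

end Cfg

/-- the action of the transvection `(q, ψ)` on the functionals -/
theorem dua_of_act {d : K} {q : V} {ψ : Du V} (h1 : ψ q = 0) (hd : ∀ v : V, d • v = v + ψ v • q)
    (φ : Du V) : dua d φ = φ + φ q • ψ := by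
  ext v
  rw [dua_apply, LinearMap.add_apply, LinearMap.smul_apply, smul_eq_mul]
  have h5 : d⁻¹ • v = v + ψ v • q := by
    rw [inv_smul_eq_iff, hd, map_add, map_smul, h1, smul_zero, add_zero, add_add_self]
  rw [h5, map_add, map_smul, smul_eq_mul, mul_comm]

/-- the commutator of two transvections -/
theorem comm_act {d e : K} {q r : V} {χ ψ : Du V} (h1 : χ q = 0) (h2 : ψ r = 0) (h3 : ψ q = 0)
    (h4 : χ r = 1) (hd : ∀ v : V, d • v = v + χ v • q) (he : ∀ v : V, e • v = v + ψ v • r) (v : V) :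
    (d * e * d⁻¹ * e⁻¹) • v = v + ψ v • q := by
  have hd' : ∀ v : V, d⁻¹ • v = v + χ v • q := fun v => by
    rw [inv_smul_eq_iff, hd, map_add, map_smul, h1, smul_zero, add_zero, add_add_self]
  have he' : ∀ v : V, e⁻¹ • v = v + ψ v • r := fun v => by
    rw [inv_smul_eq_iff, he, map_add, map_smul, h2, smul_zero, add_zero, add_add_self]
  rw [mul_smul, mul_smul, mul_smul, he', hd', map_add, map_smul, h4, he, hd]
  simp only [map_add, map_smul, h1, h2, h3, h4, smul_eq_mul, mul_zero, mul_one, add_zero]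
  rcases zmod_cases (ψ v) with h5 | h5 <;> rcases zmod_cases (χ v) with h6 | h6 <;>
    simp only [h5, h6, zero_smul, one_smul, add_zero, zero_add, one_add_one]
  · rw [add_add_self]
  · rw [show v + r + q + r = v + q + (r + r) by abel, add_self, add_zero]
  · rw [show v + r + r + q = v + q + (r + r) by abel, add_self, add_zero]

end Cfsg.Agent.Omega.NO1.MiniMcL

end

section


/-!
# THEOREM NAT (#13408) (4): the group side of Mini-McLaughlin

`Dat`: an elementary abelian 2-subgroup `W` and a subgroup `Wc`, both normalised by `C`; the `F₂`-space `D.Q = W/Wc`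
with the action of `C`, and the projection `D.p : G → D.Q` (meaningful on `W`).
`Inp`: the output of (3); `Inp.cfg`: the configuration `MiniMcL.Cfg` on `W/Wc`.
-/

set_option autoImplicit false
set_option linter.unusedSectionVars false

namespace Cfsg.Agent.Omega.NO1.NatQuot

open Subgroup
open Cfsg.Agent.Omega.Transv Cfsg.Agent.Omega.NO1.MiniMcL

/-- the data -/
structure Dat (G : Type*) [Group G] where
  C : Subgroup G
  W : Subgroup G
  Wc : Subgroup G
  comm : ∀ a ∈ W, ∀ b ∈ W, a * b = b * a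
  sq : ∀ a ∈ W, a * a = 1
  normW : ∀ c ∈ C, ∀ w ∈ W, c * w * c⁻¹ ∈ W
  normWc : ∀ c ∈ C, ∀ w ∈ Wc, c * w * c⁻¹ ∈ Wc

namespace Dat

variable {G : Type*} [Group G] (D : Dat G)

/-- `Wc` in `W` -/
abbrev Ws : Subgroup D.W := D.Wc.subgroupOf D.W

instance : D.Ws.Normal := ⟨by
  intro x hx w
  have h : w * x * w⁻¹ = x := by
    apply Subtype.ext
    change (w : G) * x * (w : G)⁻¹ = x
    rw [D.comm w w.2 x x.2, mul_inv_cancel_right]
  rwa [h]⟩

/-- the quotient as a multiplicative group -/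
abbrev Qm : Type _ := D.W ⧸ D.Ws

instance : CommGroup D.Qm :=
  { (inferInstance : Group D.Qm) with
    mul_comm := by
      intro x y
      induction x using QuotientGroup.induction_on with
      | H x =>
        induction y using QuotientGroup.induction_on with
        | H y =>
          change (QuotientGroup.mk (x * y) : D.Qm) = QuotientGroup.mk (y * x)
          congr 1
          exact Subtype.ext (D.comm x x.2 y y.2) }

/-- the quotient `W/Wc`, additively -/
def Q : Type _ := Additive D.Qm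

instance : AddCommGroup D.Q := inferInstanceAs (AddCommGroup (Additive D.Qm))

instance [Finite G] : Finite D.Q := inferInstanceAs (Finite (Additive D.Qm))

/-- conjugation by `C` on `W` -/
def cj (c : D.C) : D.W →* D.W where
  toFun x := ⟨c * x * (c : G)⁻¹, D.normW c c.2 x x.2⟩
  map_one' := Subtype.ext (by simp)
  map_mul' x y := Subtype.ext (by
    change (c : G) * (x * y) * (c : G)⁻¹ = c * x * (c : G)⁻¹ * (c * y * (c : G)⁻¹)
    group)

/-- the action on the quotient -/
def act (c : D.C) : D.Qm →* D.Qm :=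
  QuotientGroup.map D.Ws D.Ws (D.cj c) (fun x hx => D.normWc c c.2 x hx)

theorem act_mk (c : D.C) (x : D.W) : D.act c (QuotientGroup.mk x) = QuotientGroup.mk (D.cj c x) := rfl

instance : DistribMulAction D.C D.Q where
  smul c m := (Additive.ofMul (D.act c (Additive.toMul (show Additive D.Qm from m))) : Additive D.Qm)
  one_smul := by
    intro m
    change (Additive.ofMul (D.act 1 (Additive.toMul (show Additive D.Qm from m))) : Additive D.Qm) = m
    have key : ∀ m : D.Qm, D.act 1 m = m := by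
      intro m
      induction m using QuotientGroup.induction_on with
      | H x =>
        rw [act_mk]
        congr 1
        apply Subtype.ext
        change (1 : G) * x * (1 : G)⁻¹ = x
        group
    rw [key]
    rfl
  mul_smul := by
    intro n n' m
    change (Additive.ofMul (D.act (n * n') (Additive.toMul (show Additive D.Qm from m))) : Additive D.Qm) =
      Additive.ofMul (D.act n (D.act n' (Additive.toMul (show Additive D.Qm from m))))
    have key : ∀ m : D.Qm, D.act (n * n') m = D.act n (D.act n' m) := by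
      intro m
      induction m using QuotientGroup.induction_on with
      | H x =>
        rw [act_mk, act_mk, act_mk]
        congr 1
        apply Subtype.ext
        change ((n * n' : D.C) : G) * x * ((n * n' : D.C) : G)⁻¹ = n * (n' * x * (n' : G)⁻¹) * (n : G)⁻¹
        push_cast
        group
    rw [key]
  smul_zero := by
    intro n
    change (Additive.ofMul (D.act n 1) : Additive D.Qm) = _
    rw [map_one]
    rfl
  smul_add := by
    intro n x y
    change (Additive.ofMul (D.act n (Additive.toMul (show Additive D.Qm from x) *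
      Additive.toMul (show Additive D.Qm from y))) : Additive D.Qm) = _
    rw [map_mul]
    rfl

open Classical in
/-- the projection -/
noncomputable def p (g : G) : D.Q :=
  if h : g ∈ D.W then (Additive.ofMul (QuotientGroup.mk ⟨g, h⟩ : D.Qm) : Additive D.Qm) else 0

theorem p_of {g : G} (h : g ∈ D.W) :
    D.p g = (Additive.ofMul (QuotientGroup.mk ⟨g, h⟩ : D.Qm) : Additive D.Qm) := dif_pos h

theorem p_surj (m : D.Q) : ∃ x ∈ D.W, D.p x = m := by
  have key : ∀ m : D.Qm, ∃ x ∈ D.W, D.p x = (Additive.ofMul m : Additive D.Qm) := by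
    intro m
    induction m using QuotientGroup.induction_on with
    | H x => exact ⟨x, x.2, D.p_of x.2⟩
  exact key (Additive.toMul (show Additive D.Qm from m))

theorem p_mul {x y : G} (hx : x ∈ D.W) (hy : y ∈ D.W) : D.p (x * y) = D.p x + D.p y := by
  rw [D.p_of hx, D.p_of hy, D.p_of (mul_mem hx hy)]
  rfl

theorem p_ker {x : G} (hx : x ∈ D.W) : D.p x = 0 ↔ x ∈ D.Wc := by
  rw [D.p_of hx]
  have h : ((QuotientGroup.mk ⟨x, hx⟩ : D.Qm) = 1) ↔ x ∈ D.Wc := by
    rw [QuotientGroup.eq_one_iff]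
    rfl
  exact h

theorem p_act (c : D.C) {x : G} (hx : x ∈ D.W) : c • D.p x = D.p (c * x * (c : G)⁻¹) := by
  rw [D.p_of hx, D.p_of (D.normW c c.2 x hx)]
  rfl

theorem p_one : D.p 1 = 0 := (D.p_ker D.W.one_mem).2 D.Wc.one_mem

theorem p_add_self (m : D.Q) : m + m = 0 := by
  obtain ⟨x, hx, rfl⟩ := D.p_surj m
  rw [← D.p_mul hx hx, D.sq x hx, p_one]

instance : Module (ZMod 2) D.Q := AddCommGroup.zmodModule (n := 2) (fun x => by
  rw [two_nsmul]; exact D.p_add_self x)

theorem p_eq {x y : G} (hx : x ∈ D.W) (hy : y ∈ D.W) : D.p x = D.p y ↔ x * y ∈ D.Wc := by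
  rw [← D.p_ker (mul_mem hx hy), D.p_mul hx hy]
  constructor
  · intro h; rw [h]; exact D.p_add_self _
  · intro h; exact eq_of_add h

theorem p_inv {x : G} (hx : x ∈ D.W) : D.p x⁻¹ = D.p x := by
  rw [D.p_eq (inv_mem hx) hx, inv_mul_cancel]
  exact D.Wc.one_mem

/-- the preimage of a subspace -/
def pre (U : Submodule (ZMod 2) D.Q) : Subgroup G where
  carrier := {g | g ∈ D.W ∧ D.p g ∈ U}
  one_mem' := ⟨D.W.one_mem, by rw [p_one]; exact U.zero_mem⟩
  mul_mem' := by
    rintro x y ⟨hx, hx'⟩ ⟨hy, hy'⟩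
    exact ⟨mul_mem hx hy, by rw [D.p_mul hx hy]; exact U.add_mem hx' hy'⟩
  inv_mem' := by
    rintro x ⟨hx, hx'⟩
    exact ⟨inv_mem hx, by rw [D.p_inv hx]; exact hx'⟩

theorem mem_pre {U : Submodule (ZMod 2) D.Q} {g : G} : g ∈ D.pre U ↔ g ∈ D.W ∧ D.p g ∈ U := Iff.rfl

/-- an additive functional is linear -/
noncomputable def mkDu (f : D.Q → ZMod 2) (hf : ∀ x y, f (x + y) = f x + f y) : Du D.Q where
  toFun := f
  map_add' := hf
  map_smul' := by
    intro c x
    rcases zmod_cases c with h | h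
    · subst h
      rw [zero_smul, RingHom.id_apply, zero_smul]
      have := hf 0 0
      rw [add_zero] at this
      exact (add_eq_left (a := f 0)).1 this.symm
    · subst h
      rw [one_smul, RingHom.id_apply, one_smul]

end Dat

/-- an element moving everything by `0` or `a` is a transvection -/
theorem exists_Phi {K : Type*} [Group K] {V : Type*} [AddCommGroup V] [Module (ZMod 2) V]
    [DistribMulAction K V] {N : Subgroup K} {a : V} (ha : a ≠ 0) {d : K} (hdN : d ∈ N)
    (h : ∀ x : V, d • x = x ∨ d • x = x + a) :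
    ∃ φ ∈ Phi N a, ∀ x : V, d • x = x + φ x • a := by
  classical
  have h0 : ∀ x : V, x + a ≠ x := fun x hx => ha (add_eq_left.1 hx)
  have hda : d • a = a := by
    refine (h a).resolve_right fun h1 => ha ?_
    rw [add_self] at h1
    have h2 : d⁻¹ • (d • a) = d⁻¹ • (0 : V) := by rw [h1]
    rwa [inv_smul_smul, smul_zero] at h2
  have key : ∀ x : V, d • x = x + (if d • x = x then (0 : ZMod 2) else 1) • a := by
    intro x
    by_cases h1 : d • x = x
    · rw [if_pos h1, zero_smul, add_zero, h1]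
    · rw [if_neg h1, one_smul]
      exact (h x).resolve_left h1
  have hinj : ∀ c c' : ZMod 2, c • a = c' • a → c = c' := by
    intro c c' hc
    rcases zmod_cases c with h1 | h1 <;> rcases zmod_cases c' with h2 | h2 <;> subst h1 <;> subst h2
    · rfl
    · rw [zero_smul, one_smul] at hc; exact absurd hc.symm ha
    · rw [zero_smul, one_smul] at hc; exact absurd hc ha
    · rfl
  let φ : Du V :=
    { toFun := fun x => if d • x = x then (0 : ZMod 2) else 1
      map_add' := by
        intro x y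
        apply hinj
        have h1 := key (x + y)
        rw [smul_add, key x, key y] at h1
        rw [add_smul]
        have h2 : x + y + ((if d • x = x then (0 : ZMod 2) else 1) • a +
            (if d • y = y then (0 : ZMod 2) else 1) • a) =
            x + y + (if d • (x + y) = x + y then (0 : ZMod 2) else 1) • a := by
          have e1 : d • (x + y) = x + (if d • x = x then (0 : ZMod 2) else 1) • a +
              (y + (if d • y = y then (0 : ZMod 2) else 1) • a) := by
            rw [smul_add, key x, key y]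
            simp only [← key x, ← key y]
          rw [← key (x + y), e1]
          abel
        exact (add_left_cancel h2).symm
      map_smul' := by
        intro c x
        rcases zmod_cases c with h1 | h1
        · subst h1; simp
        · subst h1; simp }
  refine ⟨φ, ⟨?_, d, hdN, key⟩, key⟩
  exact if_pos hda

/-- **the output of (3)**: `V ≤ C`, `V ≤ J` normalised by `C`, `V₁ ≤ W = ⟨V₁^C⟩`, ... -/
structure Inp {G : Type*} [Group G] (D : Dat G) (J V V1 : Subgroup G) : Prop where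
  VC : V ≤ D.C
  VJ : V ≤ J
  normJ : ∀ c ∈ D.C, ∀ j ∈ J, c * j * c⁻¹ ∈ J
  V1W : V1 ≤ D.W
  gen : ∀ w ∈ D.W, w ∈ closure {x | ∃ c ∈ D.C, ∃ a ∈ V1, x = c * a * c⁻¹}
  com : ∀ w ∈ D.W, ∀ v ∈ V, v * w * v⁻¹ * w⁻¹ ∈ V1
  onto : ∀ v ∈ V, v ∉ V1 → ∃ w ∈ D.W, v * w * v⁻¹ * w⁻¹ ∉ D.Wc
  four : ∃ v ∈ V, ∃ v' ∈ V, v ∉ V1 ∧ v' ∉ V1 ∧ v⁻¹ * v' ∉ V1
  ex : ∃ e ∈ V1, e ∉ D.Wc
  two : ∀ a ∈ V1, ∀ b ∈ V1, a ∉ D.Wc → b ∉ D.Wc → a * b ∈ D.Wc
  small : ∀ w ∈ D.W, (∀ v ∈ V, v * w * v⁻¹ * w⁻¹ ∈ D.Wc) → ∀ v ∈ V, v * w = w * v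
  big : ∀ w ∈ D.W, (∀ c ∈ D.C, ∀ v ∈ V, (c * v * c⁻¹) * w = w * (c * v * c⁻¹)) → w ∈ D.Wc

namespace Inp

variable {G : Type*} [Group G] {D : Dat G} {J V V1 : Subgroup G} (I : Inp D J V V1)
include I

theorem nor : (J.subgroupOf D.C).Normal := ⟨fun j hj c => I.normJ c c.2 j hj⟩

/-- all elements of `V₁ - Wc` have the same image -/
theorem p_eq {a b : G} (ha : a ∈ V1) (hb : b ∈ V1) (ha' : a ∉ D.Wc) (hb' : b ∉ D.Wc) : D.p a = D.p b :=
  (D.p_eq (I.V1W ha) (I.V1W hb)).2 (I.two a ha b hb ha' hb')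

theorem p_ne {e : G} (he : e ∈ V1) (he' : e ∉ D.Wc) : D.p e ≠ 0 := fun h =>
  he' ((D.p_ker (I.V1W he)).1 h)

/-- the action of `V` -/
theorem smul_p {v w : G} (hv : v ∈ V) (hw : w ∈ D.W) :
    (⟨v, I.VC hv⟩ : D.C) • D.p w = D.p w + D.p (v * w * v⁻¹ * w⁻¹) := by
  rw [D.p_act _ hw, ← D.p_mul hw (I.V1W (I.com w hw v hv)), D.comm w hw _ (I.V1W (I.com w hw v hv))]
  congr 1
  change v * w * v⁻¹ = v * w * v⁻¹ * w⁻¹ * w
  group

theorem exists_phi {e : G} (he : e ∈ V1) (he' : e ∉ D.Wc) {v : G} (hv : v ∈ V) :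
    ∃ φ ∈ Phi (J.subgroupOf D.C) (D.p e), ∀ x : D.Q, (⟨v, I.VC hv⟩ : D.C) • x = x + φ x • D.p e := by
  apply exists_Phi (I.p_ne he he') (show (⟨v, I.VC hv⟩ : D.C) ∈ J.subgroupOf D.C from I.VJ hv)
  intro x
  obtain ⟨w, hw, rfl⟩ := D.p_surj x
  rw [I.smul_p hv hw]
  have h1 := I.com w hw v hv
  by_cases h2 : v * w * v⁻¹ * w⁻¹ ∈ D.Wc
  · left
    rw [(D.p_ker (I.V1W h1)).2 h2, add_zero]
  · right
    rw [I.p_eq h1 he h2 he']

/-- the meaning of the functional of `v` -/
theorem phi_eq_zero {e : G} (he : e ∈ V1) (he' : e ∉ D.Wc) {v : G} (hv : v ∈ V) {φ : Du D.Q}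
    (hφ : ∀ x : D.Q, (⟨v, I.VC hv⟩ : D.C) • x = x + φ x • D.p e) {w : G} (hw : w ∈ D.W) :
    φ (D.p w) = 0 ↔ v * w * v⁻¹ * w⁻¹ ∈ D.Wc := by
  have h1 := hφ (D.p w)
  rw [I.smul_p hv hw] at h1
  have h2 := add_left_cancel h1
  rw [← D.p_ker (I.V1W (I.com w hw v hv)), h2]
  constructor
  · intro h; rw [h, zero_smul]
  · intro h
    by_contra h3
    rw [eq_one_of_ne h3, one_smul] at h
    exact I.p_ne he he' h

theorem phi_ne_zero {e : G} (he : e ∈ V1) (he' : e ∉ D.Wc) {v : G} (hv : v ∈ V) (hv1 : v ∉ V1) {φ : Du D.Q}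
    (hφ : ∀ x : D.Q, (⟨v, I.VC hv⟩ : D.C) • x = x + φ x • D.p e) : φ ≠ 0 := by
  rintro rfl
  obtain ⟨w, hw, h⟩ := I.onto v hv hv1
  exact h ((I.phi_eq_zero he he' hv hφ hw).1 rfl)

/-- **the configuration** -/
theorem cfg {e : G} (he : e ∈ V1) (he' : e ∉ D.Wc) :
    Cfg (J.subgroupOf D.C) {x : D.Q | ∃ c : D.C, x = c • D.p e} where
  nor := I.nor
  ne := by
    rintro _ ⟨c, rfl⟩ h
    apply I.p_ne he he'
    have h2 : c⁻¹ • (c • D.p e) = c⁻¹ • (0 : D.Q) := by rw [h]
    rwa [inv_smul_smul, smul_zero] at h2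
  inv := by
    rintro g _ ⟨c, rfl⟩
    exact ⟨g * c, (mul_smul g c _).symm⟩
  tr := by
    rintro _ ⟨c, rfl⟩ _ ⟨d, rfl⟩
    exact ⟨d * c⁻¹, by rw [mul_smul, inv_smul_smul]⟩
  span := by
    rw [eq_top_iff]
    rintro x -
    obtain ⟨w, hw, rfl⟩ := D.p_surj x
    have key : w ∈ D.W ∧ D.p w ∈ Submodule.span (ZMod 2) {x : D.Q | ∃ c : D.C, x = c • D.p e} := by
      refine closure_induction (p := fun w _ => w ∈ D.W ∧
        D.p w ∈ Submodule.span (ZMod 2) {x : D.Q | ∃ c : D.C, x = c • D.p e}) ?_ ?_ ?_ ?_ (I.gen w hw)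
      · rintro x ⟨c, hc, a, ha, rfl⟩
        refine ⟨D.normW c hc a (I.V1W ha), ?_⟩
        have h1 := D.p_act ⟨c, hc⟩ (I.V1W ha)
        by_cases h2 : a ∈ D.Wc
        · rw [(D.p_ker (D.normW c hc a (I.V1W ha))).2 (D.normWc c hc a h2)]
          exact Submodule.zero_mem _
        · apply Submodule.subset_span
          refine ⟨⟨c, hc⟩, ?_⟩
          rw [I.p_eq he ha he' h2, h1]
      · exact ⟨D.W.one_mem, by rw [D.p_one]; exact Submodule.zero_mem _⟩
      · rintro x y _ _ ⟨hx, hx'⟩ ⟨hy, hy'⟩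
        exact ⟨mul_mem hx hy, by rw [D.p_mul hx hy]; exact Submodule.add_mem _ hx' hy'⟩
      · rintro x _ ⟨hx, hx'⟩
        exact ⟨inv_mem hx, by rw [D.p_inv hx]; exact hx'⟩
    exact key.2
  two := by
    rintro _ ⟨c, rfl⟩
    obtain ⟨v, hv, v', hv', h1, h2, h3⟩ := I.four
    obtain ⟨φ, hφ, h4⟩ := I.exists_phi he he' hv
    obtain ⟨ψ, hψ, h5⟩ := I.exists_phi he he' hv'
    have := I.nor
    refine ⟨dua c φ, Phi_smul c hφ, dua c ψ, Phi_smul c hψ, ?_, ?_, ?_⟩
    · intro h
      apply I.phi_ne_zero he he' hv h1 h4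
      rw [← dua_inv_dua c φ, h]
      ext x; rfl
    · intro h
      apply I.phi_ne_zero he he' hv' h2 h5
      rw [← dua_inv_dua c ψ, h]
      ext x; rfl
    · intro h
      have h6 := dua_injective c h
      subst h6
      have hvv : v⁻¹ * v' ∈ V := mul_mem (inv_mem hv) hv'
      obtain ⟨w, hw, h7⟩ := I.onto _ hvv h3
      apply h7
      have h8 : (⟨v⁻¹ * v', I.VC hvv⟩ : D.C) = (⟨v, I.VC hv⟩ : D.C)⁻¹ * ⟨v', I.VC hv'⟩ := rfl
      have h9 : (⟨v⁻¹ * v', I.VC hvv⟩ : D.C) • D.p w = D.p w := by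
        rw [h8, mul_smul, h5, ← h4, inv_smul_smul]
      rw [I.smul_p hvv hw] at h9
      have h10 := add_eq_left.1 h9
      exact (D.p_ker (I.V1W (I.com w hw _ hvv))).1 h10
  rad := by
    intro x hx
    obtain ⟨w, hw, rfl⟩ := D.p_surj x
    rw [D.p_ker hw]
    apply I.big w hw
    intro c hc v hv
    have hw' : c⁻¹ * w * c ∈ D.W := by
      have := D.normW c⁻¹ (inv_mem hc) w hw
      rwa [inv_inv] at this
    have key : ∀ v ∈ V, v * (c⁻¹ * w * c) * v⁻¹ * (c⁻¹ * w * c)⁻¹ ∈ D.Wc := by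
      intro v hv
      obtain ⟨φ, hφ, h4⟩ := I.exists_phi he he' hv
      rw [← I.phi_eq_zero he he' hv h4 hw']
      have := I.nor
      let d : D.C := ⟨c, hc⟩
      have h5 : (dua d φ) (D.p w) = 0 := hx (d • D.p e) ⟨d, rfl⟩ (dua d φ) (Phi_smul d hφ)
      rw [dua_apply, D.p_act _ hw] at h5
      have h6 : ((d⁻¹ : D.C) : G) * w * ((d⁻¹ : D.C) : G)⁻¹ = c⁻¹ * w * c := by
        rw [InvMemClass.coe_inv, inv_inv]
      rwa [h6] at h5
    have h1 := I.small _ hw' key v hv
    have h2 : c * (v * (c⁻¹ * w * c)) * c⁻¹ = c * ((c⁻¹ * w * c) * v) * c⁻¹ := by rw [h1]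
    have e1 : c * (v * (c⁻¹ * w * c)) * c⁻¹ = c * v * c⁻¹ * w := by group
    have e2 : c * ((c⁻¹ * w * c) * v) * c⁻¹ = w * (c * v * c⁻¹) := by group
    rwa [e1, e2] at h2

end Inp

end Cfsg.Agent.Omega.NO1.NatQuot

end
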